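import Mathlib
import Cfsg.Agent.Lib.Helper30.PiHall
import Cfsg.Agent.Lib.Helper30.PiHallA
import Cfsg.Agent.S3897

set_option autoImplicit false

/-!
# Coprime action of an `r`-group: invariant Sylow subgroups

All statements are for subgroups of an ambient finite group `G` with a normal subgroup `K` of
order prime to `r` and index prime to `p`.

* `exists_invariant_sylow`: an `r`-subgroup `B ≤ X` normalizes a Sylow `p`-subgroup of `X`.
* `conj_invariant_sylow`: two `B`-invariant Sylow `p`-subgroups are conjugate under `C_K(B)`.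
* `val_centralizer_jump`: for an `r`-element `x` and `p < r`, the `p`-part of `|C_G(x)|` is either
  full or misses at least `p²`.
-/

namespace Cfsg.Agent.Lib.Helper62.CopAct

open Cfsg.Agent.Lib.Helper30.PiHall

universe u

variable {G : Type u} [Group G]

/-- a `p`-subgroup lies in every normal subgroup of index prime to `p` -/
theorem le_of_not_dvd_index [Finite G] {p : ℕ} (hp : p.Prime) (K : Subgroup G) [K.Normal]
    (hK : ¬ p ∣ K.index) {Q : Subgroup G} (hQ : IsPGroup p Q) : Q ≤ K := by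
  intro x hx
  obtain ⟨k, hk⟩ := hQ ⟨x, hx⟩
  have hxk : x ^ p ^ k = 1 := by
    have := congrArg Subtype.val hk
    simpa using this
  have h1 : orderOf (QuotientGroup.mk' K x) ∣ p ^ k := by
    apply orderOf_dvd_of_pow_eq_one
    rw [← map_pow, hxk, map_one]
  have h2 : orderOf (QuotientGroup.mk' K x) ∣ K.index := by
    rw [Subgroup.index_eq_card]; exact orderOf_dvd_natCard _
  have h3 : orderOf (QuotientGroup.mk' K x) = 1 := by
    obtain ⟨j, -, hj⟩ := (Nat.dvd_prime_pow hp).mp h1
    rcases Nat.eq_zero_or_pos j with rfl | hjpos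
    · simpa using hj
    · exfalso; apply hK
      rw [hj] at h2
      exact (dvd_pow_self p hjpos.ne').trans h2
  have h4 := orderOf_eq_one_iff.mp h3
  exact (QuotientGroup.eq_one_iff x).mp h4

/-- an `r`-subgroup normalizes some Sylow `p`-subgroup -/
theorem exists_sylow_normalized [Finite G] {p r : ℕ} [hp : Fact p.Prime] [hr : Fact r.Prime]
    (K : Subgroup G) [K.Normal] (hK : ¬ r ∣ Nat.card K) (hKi : ¬ p ∣ K.index)
    (B : Subgroup G) (hB : IsPGroup r B) :
    ∃ P : Sylow p G, ∀ b ∈ B, b ∈ Subgroup.normalizer ((P : Subgroup G) : Set G) := by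
  obtain ⟨P0⟩ : Nonempty (Sylow p G) := inferInstance
  have hP0K : (P0 : Subgroup G) ≤ K := le_of_not_dvd_index hp.out K hKi P0.isPGroup'
  have hsup : Subgroup.normalizer ((P0 : Subgroup G) : Set G) ⊔ K = ⊤ :=
    Sylow.normalizer_sup_eq_top' P0 hP0K
  have hcard : ¬ r ∣ Nat.card (Sylow p G) := by
    rw [Sylow.card_eq_index_normalizer P0]
    have h1 := val_eq_relIndex K (Subgroup.normalizer ((P0 : Subgroup G) : Set G)) hK
    have h2 := val_eq_relIndex K (⊤ : Subgroup G) hK
    have h3 : K.relIndex (Subgroup.normalizer ((P0 : Subgroup G) : Set G)) = K.relIndex ⊤ := by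
      rw [← Subgroup.relIndex_sup_right
        (H := Subgroup.normalizer ((P0 : Subgroup G) : Set G)) (K := K), hsup]
    rw [h3, ← h2, Subgroup.card_top] at h1
    intro hdvd
    have h4 := Subgroup.index_mul_card (Subgroup.normalizer ((P0 : Subgroup G) : Set G))
    have hi0 : (Subgroup.normalizer ((P0 : Subgroup G) : Set G)).index ≠ 0 :=
      Subgroup.index_ne_zero_of_finite
    have h5 : (Nat.card G).factorization r
        = ((Subgroup.normalizer ((P0 : Subgroup G) : Set G)).index).factorization r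
          + (Nat.card (Subgroup.normalizer ((P0 : Subgroup G) : Set G))).factorization r := by
      rw [← h4, Nat.factorization_mul hi0 Nat.card_pos.ne']; rfl
    have h6 : 0 < ((Subgroup.normalizer ((P0 : Subgroup G) : Set G)).index).factorization r :=
      hr.out.factorization_pos_of_dvd hi0 hdvd
    omega
  obtain ⟨P, hP⟩ := hB.nonempty_fixed_point_of_prime_not_dvd_card (Sylow p G) hcard
  refine ⟨P, fun b hb => ?_⟩
  have h7 : (⟨b, hb⟩ : B) • P = P := hP ⟨b, hb⟩
  have h8 : b • P = P := h7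
  exact Sylow.smul_eq_iff_mem_normalizer.mp h8

/-- an `r`-subgroup `B ≤ X` normalizes some Sylow `p`-subgroup of `X` -/
theorem exists_invariant_sylow [Finite G] {p r : ℕ} (hp : p.Prime) (hr : r.Prime)
    (X : Subgroup G) (K : Subgroup G) [K.Normal] (hK : ¬ r ∣ Nat.card K) (hKi : ¬ p ∣ K.index)
    (B : Subgroup G) (hBX : B ≤ X) (hB : IsPGroup r B) :
    ∃ T : Subgroup G, T ≤ X ∧ Nat.card T = p ^ (Nat.card X).factorization p ∧
      ∀ b ∈ B, ∀ t ∈ T, b * t * b⁻¹ ∈ T := by
  have : Fact p.Prime := ⟨hp⟩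
  have : Fact r.Prime := ⟨hr⟩
  have hK' : ¬ r ∣ Nat.card (K.subgroupOf X) := by
    intro h
    apply hK
    have h1 : Nat.card (K.subgroupOf X) = Nat.card (K ⊓ X : Subgroup G) := by
      rw [← Subgroup.card_map_of_injective (K := K.subgroupOf X) X.subtype_injective,
        Subgroup.subgroupOf_map_subtype]
    rw [h1] at h
    exact h.trans (Subgroup.card_dvd_of_le inf_le_left)
  have hKi' : ¬ p ∣ (K.subgroupOf X).index := by
    intro h
    exact hKi (h.trans (Subgroup.relIndex_dvd_index_of_normal K X))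
  have hB' : IsPGroup r (B.subgroupOf X) :=
    hB.comap_of_injective X.subtype X.subtype_injective
  obtain ⟨P, hP⟩ := exists_sylow_normalized (p := p) (K.subgroupOf X) hK' hKi'
    (B.subgroupOf X) hB'
  refine ⟨(P : Subgroup X).map X.subtype, Subgroup.map_subtype_le _, ?_, ?_⟩
  · rw [Subgroup.card_subtype]; exact Sylow.card_eq_multiplicity P
  · intro b hb t ht
    obtain ⟨t', ht', rfl⟩ := Subgroup.mem_map.mp ht
    have hbn := hP ⟨b, hBX hb⟩ (Subgroup.mem_subgroupOf.mpr hb)
    have h1 := (Subgroup.mem_normalizer_iff.mp hbn t').mp ht'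
    exact Subgroup.mem_map.mpr ⟨_, h1, by simp⟩

/-- if `g P g⁻¹ ⊆ P'` and `|P'| ≤ |P|` then `g⁻¹ P' g ⊆ P` -/
theorem conj_back [Finite G] {P P' : Subgroup G} {g : G} (h : ∀ u ∈ P, g * u * g⁻¹ ∈ P')
    (hc : Nat.card P' ≤ Nat.card P) : ∀ u' ∈ P', g⁻¹ * u' * g ∈ P := by
  have hle : cj g P ≤ P' := by
    intro x hx
    obtain ⟨y, hy, rfl⟩ := mem_cj.mp hx
    exact h y hy
  have heq : cj g P = P' := Subgroup.eq_of_le_of_card_ge hle (by rw [card_cj]; exact hc)
  intro u' hu'
  rw [← heq] at hu'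
  obtain ⟨y, hy, rfl⟩ := mem_cj.mp hu'
  have e : g⁻¹ * (g * y * g⁻¹) * g = y := by group
  rw [e]; exact hy

/-- two `B`-invariant Sylow `p`-subgroups in `K` are conjugate by an element of `K` centralizing
`B` -/
theorem conj_invariant_sylow [Finite G] {p r : ℕ} (hp : p.Prime) (hr : r.Prime)
    (K : Subgroup G) [hKn : K.Normal] (hK : ¬ r ∣ Nat.card K)
    (B : Subgroup G) (hB : IsPGroup r B) (P P' : Subgroup G) (hPK : P ≤ K) (hP'K : P' ≤ K)
    (hPc : Nat.card P = p ^ (Nat.card G).factorization p)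
    (hP'c : Nat.card P' = p ^ (Nat.card G).factorization p)
    (hBP : ∀ b ∈ B, ∀ u ∈ P, b * u * b⁻¹ ∈ P) (hBP' : ∀ b ∈ B, ∀ u ∈ P', b * u * b⁻¹ ∈ P') :
    ∃ c ∈ K, (∀ b ∈ B, b * c = c * b) ∧ ∀ u ∈ P, c * u * c⁻¹ ∈ P' := by
  have : Fact r.Prime := ⟨hr⟩
  have hvK : (Nat.card K).factorization p = (Nat.card G).factorization p := by
    have := fact_eq hp hPK (le_top : K ≤ ⊤) (by rw [Subgroup.card_top]; exact hPc)
    rwa [Subgroup.card_top] at this
  obtain ⟨k0, hk0K, hk0⟩ := conj_into K hp hPK hP'K (IsPGroup.of_card hPc)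
    (by rw [hvK]; exact hP'c)
  have hback := conj_back hk0 (by rw [hPc, hP'c])
  have hN' : ¬ r ∣ Nat.card (K ⊓ Subgroup.normalizer (P : Set G) : Subgroup G) :=
    fun h => hK (h.trans (Subgroup.card_dvd_of_le inf_le_left))
  have hmem : ∀ b ∈ B, ∀ n ∈ (K ⊓ Subgroup.normalizer (P : Set G) : Subgroup G),
      k0⁻¹ * b * k0 * n * b⁻¹ ∈ (K ⊓ Subgroup.normalizer (P : Set G) : Subgroup G) := by
    intro b hb n hn
    have hn' := Subgroup.mem_inf.mp hn
    refine Subgroup.mem_inf.mpr ⟨?_, ?_⟩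
    · have e : k0⁻¹ * b * k0 * n * b⁻¹ = k0⁻¹ * (b * (k0 * n) * b⁻¹) := by group
      rw [e]
      exact K.mul_mem (K.inv_mem hk0K) (hKn.conj_mem _ (K.mul_mem hk0K hn'.1) b)
    · apply Subgroup.mem_normalizer_fintype
      intro u hu
      have h1 : b⁻¹ * u * b ∈ P := by
        have := hBP b⁻¹ (B.inv_mem hb) u hu
        simpa using this
      have h2 : n * (b⁻¹ * u * b) * n⁻¹ ∈ P := (Subgroup.mem_normalizer_iff.mp hn'.2 _).mp h1
      have h3 := hk0 _ h2
      have h4 := hBP' b hb _ h3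
      have h5 := hback _ h4
      have e : k0⁻¹ * b * k0 * n * b⁻¹ * u * (k0⁻¹ * b * k0 * n * b⁻¹)⁻¹
          = k0⁻¹ * (b * (k0 * (n * (b⁻¹ * u * b) * n⁻¹) * k0⁻¹) * b⁻¹) * k0 := by group
      rw [e]; exact h5
  let act : MulAction B (K ⊓ Subgroup.normalizer (P : Set G) : Subgroup G) :=
    { smul := fun b n => ⟨k0⁻¹ * b * k0 * n * (b : G)⁻¹, hmem b b.2 n n.2⟩
      one_smul := fun n => Subtype.ext (by
        show k0⁻¹ * ((1 : B) : G) * k0 * n * ((1 : B) : G)⁻¹ = n
        simp)
      mul_smul := fun b b' n => Subtype.ext (by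
        show k0⁻¹ * ((b * b' : B) : G) * k0 * n * ((b * b' : B) : G)⁻¹
          = k0⁻¹ * (b : G) * k0 * (k0⁻¹ * (b' : G) * k0 * n * (b' : G)⁻¹) * (b : G)⁻¹
        rw [Subgroup.coe_mul]; group) }
  obtain ⟨n, hn⟩ := hB.nonempty_fixed_point_of_prime_not_dvd_card
    (K ⊓ Subgroup.normalizer (P : Set G) : Subgroup G) hN'
  have hn' := Subgroup.mem_inf.mp n.2
  refine ⟨k0 * n, K.mul_mem hk0K hn'.1, ?_, ?_⟩
  · intro b hb
    have h1 : (⟨b, hb⟩ : B) • n = n := hn ⟨b, hb⟩
    have h2 : k0⁻¹ * b * k0 * (n : G) * b⁻¹ = n := congrArg Subtype.val h1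
    calc b * (k0 * (n : G)) = k0 * (k0⁻¹ * b * k0 * (n : G) * b⁻¹) * b := by group
      _ = k0 * (n : G) * b := by rw [h2]
  · intro u hu
    have h2 : (n : G) * u * (n : G)⁻¹ ∈ P := (Subgroup.mem_normalizer_iff.mp hn'.2 _).mp hu
    have h3 := hk0 _ h2
    have e : k0 * (n : G) * u * (k0 * (n : G))⁻¹ = k0 * ((n : G) * u * (n : G)⁻¹) * k0⁻¹ := by
      group
    rw [e]; exact h3

/-- fixed point congruence for an `r`-element normalizing `T` -/
theorem card_modEq_card_inf_centralizer [Finite G] {r : ℕ} [Fact r.Prime] (T : Subgroup G) (x : G)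
    (hx : IsPGroup r (Subgroup.zpowers x)) (hxT : x ∈ Subgroup.normalizer (T : Set G)) :
    Nat.card T ≡ Nat.card (T ⊓ Subgroup.centralizer ({x} : Set G) : Subgroup G) [MOD r] := by
  let n : Cfsg.Agent.S3897.Nz T := ⟨x, hxT⟩
  have hB : IsPGroup r (Subgroup.zpowers n) := by
    obtain ⟨j, hj⟩ := IsPGroup.iff_card.mp hx
    apply IsPGroup.of_card (n := j)
    rw [Nat.card_zpowers] at hj ⊢
    rw [← hj]
    exact Subgroup.orderOf_mk x hxT
  have h1 := hB.card_modEq_card_fixedPoints T
  have h2 : Nat.card (MulAction.fixedPoints (Subgroup.zpowers n) T)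
      = Nat.card (T ⊓ Subgroup.centralizer ({x} : Set G) : Subgroup G) := by
    have e1 : ∀ t : T, t ∈ MulAction.fixedPoints (Subgroup.zpowers n) T
        ↔ (t : G) ∈ Subgroup.centralizer ({x} : Set G) := by
      intro t
      rw [MulAction.mem_fixedPoints, Subgroup.mem_centralizer_iff]
      constructor
      · intro h z hz
        rw [Set.mem_singleton_iff] at hz
        subst hz
        have h3 : (⟨n, Subgroup.mem_zpowers n⟩ : Subgroup.zpowers n) • t = t :=
          h ⟨n, Subgroup.mem_zpowers n⟩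
        have h4 : z * (t : G) * z⁻¹ = t := congrArg Subtype.val h3
        exact mul_inv_eq_iff_eq_mul.mp h4
      · intro h b
        obtain ⟨k, hk⟩ := Subgroup.mem_zpowers_iff.mp b.2
        have hx' : x * (t : G) = t * x := h x (Set.mem_singleton x)
        apply Subtype.ext
        show ((b : Cfsg.Agent.S3897.Nz T) : G) * t * ((b : Cfsg.Agent.S3897.Nz T) : G)⁻¹ = t
        rw [← hk]
        have e2 : ((n ^ k : Cfsg.Agent.S3897.Nz T) : G) = x ^ k := by
          rw [Subgroup.coe_zpow]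
        rw [e2]
        have hc : Commute x (t : G) := hx'
        have hc2 := (hc.zpow_left k).eq
        rw [hc2]; group
    exact Nat.card_congr ((Equiv.subtypeEquivRight e1).trans
      ((Equiv.subtypeSubtypeEquivSubtypeInter _ _).trans
        (Equiv.subtypeEquivRight (fun g => (Subgroup.mem_inf (p := T)
          (p' := Subgroup.centralizer ({x} : Set G)) (x := g)).symm))))
  rw [h2] at h1
  exact h1

/-- for an `r`-element `x` and `p < r`, the `p`-part of `|C_G(x)|` is full or misses `p²` -/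
theorem val_centralizer_jump [Finite G] {p r : ℕ} (hp : p.Prime) (hr : r.Prime) (hpr : p < r)
    (K : Subgroup G) [K.Normal] (hK : ¬ r ∣ Nat.card K) (hKi : ¬ p ∣ K.index)
    (x : G) (hx : IsPGroup r (Subgroup.zpowers x))
    (hlt : (Nat.card (Subgroup.centralizer ({x} : Set G))).factorization p
      < (Nat.card G).factorization p) :
    (Nat.card (Subgroup.centralizer ({x} : Set G))).factorization p + 2
      ≤ (Nat.card G).factorization p := by
  have : Fact p.Prime := ⟨hp⟩
  have : Fact r.Prime := ⟨hr⟩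
  obtain ⟨S, hSC, hSc⟩ := exists_sylow_le (Subgroup.centralizer ({x} : Set G)) hp
  generalize hv : (Nat.card (Subgroup.centralizer ({x} : Set G))).factorization p = v at hlt hSc ⊢
  have hxM : x ∈ Subgroup.normalizer (S : Set G) := by
    apply Subgroup.mem_normalizer_fintype
    intro s hs
    have h1 : x * s = s * x :=
      Subgroup.mem_centralizer_iff.mp (hSC hs) x (Set.mem_singleton x)
    rw [h1]; simpa using hs
  have hdvd : p ^ (v + 1) ∣ Nat.card G :=
    (hp.pow_dvd_iff_le_factorization Nat.card_pos.ne').mpr hlt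
  have hMdvd : p ^ (v + 1) ∣ Nat.card (Subgroup.normalizer (S : Set G)) :=
    Sylow.prime_pow_dvd_card_normalizer hdvd hSc
  have hvM : v + 1 ≤ (Nat.card (Subgroup.normalizer (S : Set G))).factorization p :=
    (hp.pow_dvd_iff_le_factorization Nat.card_pos.ne').mp hMdvd
  have hMG : (Nat.card (Subgroup.normalizer (S : Set G))).factorization p
      ≤ (Nat.card G).factorization p :=
    (Nat.factorization_le_iff_dvd Nat.card_pos.ne' Nat.card_pos.ne').mpr
      (Subgroup.card_subgroup_dvd_card _) p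
  obtain ⟨T, hTM, hTc, hTinv⟩ := exists_invariant_sylow hp hr (Subgroup.normalizer (S : Set G)) K
    hK hKi (Subgroup.zpowers x) (by rw [Subgroup.zpowers_le]; exact hxM) hx
  have hST : S ≤ T := by
    obtain ⟨g, hg, hgS⟩ := conj_into (Subgroup.normalizer (S : Set G)) hp Subgroup.le_normalizer
      hTM (IsPGroup.of_card hSc) hTc
    intro s hs
    have h1 : g⁻¹ * s * g ∈ S := (Subgroup.mem_normalizer_iff''.mp hg s).mp hs
    have h2 := hgS _ h1
    have e : g * (g⁻¹ * s * g) * g⁻¹ = s := by group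
    rwa [e] at h2
  have hFc : Nat.card (T ⊓ Subgroup.centralizer ({x} : Set G) : Subgroup G) = p ^ v := by
    have hFp : IsPGroup p (T ⊓ Subgroup.centralizer ({x} : Set G) : Subgroup G) :=
      (IsPGroup.of_card hTc).to_le inf_le_left
    obtain ⟨j, hj⟩ := IsPGroup.iff_card.mp hFp
    have h1 : p ^ j ∣ Nat.card (Subgroup.centralizer ({x} : Set G)) :=
      hj ▸ Subgroup.card_dvd_of_le inf_le_right
    have h2 : j ≤ v := by
      rw [← hv]; exact (hp.pow_dvd_iff_le_factorization Nat.card_pos.ne').mp h1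
    have h3 : p ^ v ≤ p ^ j := by
      rw [← hSc, ← hj]; exact Subgroup.card_le_of_le (le_inf hST hSC)
    have h4 : v ≤ j := (Nat.pow_le_pow_iff_right hp.one_lt).mp h3
    rw [hj, le_antisymm h2 h4]
  have hxT : x ∈ Subgroup.normalizer (T : Set G) :=
    Subgroup.mem_normalizer_fintype (fun t ht => hTinv x (Subgroup.mem_zpowers x) t ht)
  have hmod := card_modEq_card_inf_centralizer T x hx hxT
  rw [hTc, hFc] at hmod
  by_contra hcon
  have hv1 : (Nat.card (Subgroup.normalizer (S : Set G))).factorization p = v + 1 := by omega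
  rw [hv1] at hmod
  have h5 : r ∣ p ^ (v + 1) - p ^ v :=
    (Nat.modEq_iff_dvd' (Nat.pow_le_pow_right hp.pos (Nat.le_succ v))).mp hmod.symm
  have h6 : p ^ (v + 1) - p ^ v = p ^ v * (p - 1) := by rw [pow_succ, Nat.mul_sub_one]
  rw [h6] at h5
  rcases (Nat.Prime.dvd_mul hr).mp h5 with h7 | h7
  · have := (Nat.prime_dvd_prime_iff_eq hr hp).mp (hr.dvd_of_dvd_pow h7)
    omega
  · have := Nat.le_of_dvd (by have := hp.two_le; omega) h7
    omega

end Cfsg.Agent.Lib.Helper62.CopAct
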