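import Mathlib
import Cfsg.Agent.Lib.Helper22.S56Stmt

/-!
# S1357 (call by helper62): statement pieces

S1357: `M = K U M_σ` maximal with `M_F ≠ M_σ`.  Then `U = 1`, `F(M)` is a TI-subset of `G` and
`|K|` is prime.

`M_σ` is not nilpotent (`Helper57.BG14FHCore.main_of`), so `U = 1` (`Helper22.BG147N0`), `K ≠ 1`
(`Helper47.S55KNE`), and we are in the setting `SetA`/`SetB` of `Helper93.S64Stmt`
(`X = ↥M`, `H = M_σ`, `R = K`, `q = |K*|`), with the pieces of the S1356 call (`HallD`, `Frat`,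
`Lift` of `Helper22.S56Stmt`).
* `|K|` prime (`KPrimeAbs`): `D` an `R`-invariant complement of `O = O_q(H)`, `N = Φ(O)`.  If `D`
  acts trivially on `O / N` then `D` centralizes `O` (`Lift`) and `H` is nilpotent (`NilProd2`).
  Otherwise S1446 in `X / N` gives `|R|` prime (`FrobModP`, `QuotP`: copies of the landed
  `FROBMOD`, `QUOT` with the first conclusion of S1446).
* `q ∈ β(M)` (`QBeta`): else `M_σ` has a normal `q`-complement (S1414), which centralizes `O`.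
* `F(M)` is TI (`TICore`): `F(M) ≤ M' = M_σ` (S1356, S1365).  If `1 ≠ x ∈ F(M) ∩ F(M)^g`, `g ∉ M`,
  then `x ∈ M_σ ∩ M^g`, whose prime divisors are not in `β(M)` (S1426); a power `x₁` of prime
  order `r ≠ q` has `C_G(x₁) ⊄ M` (S1374), so S1375 gives `N ⊇ C_G(x₁)` with `M ∩ N` a complement
  of `N_σ`; an elementary abelian `q`-subgroup `A` of `M` of order `> q²` lies in `F(M)`,
  commutes with `x₁` (`NilComm`), so `A ≤ M ∩ N`, `q ∈ α(N) ⊆ σ(N)`, `A ≤ N_σ`: contradiction.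
-/

set_option autoImplicit false

namespace Cfsg.Agent.Lib.Helper62.S57Stmt

universe u

open Cfsg Cfsg.Agent.Lib.Helper93.S64Stmt Cfsg.Agent.Lib.Helper22.S56Stmt

/-- [FROBMODP] (M-L, pure; COPY of the landed proof of `Helper22.S56Stmt.FrobMod`, e.g.
`Cfsg.Agent.Lib.Helper31.S56FROBMOD`) same hypotheses, plus `¬ K ≤ centralizer V`; conclusion
`(Nat.card R).Prime`.  As there: `W := ⁅V, K⁆ ≠ ⊥` (else `K ≤ centralizer V`,
`Subgroup.commutator_eq_bot_iff_le_centralizer`), `K ≠ ⊥`, and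
`(Cfsg.Agent.S1446.result K R W ..).1 : (Nat.card R).Prime`. -/
def FrobModP : Prop :=
  ∀ {Y : Type u} [Group Y] [Finite Y] (V K R : Subgroup Y) (q : ℕ) [Fact q.Prime],
    (∀ a ∈ V, ∀ b ∈ V, a * b = b * a) → (∀ a ∈ V, a ^ q = 1) →
    K ≤ Subgroup.normalizer (V : Set Y) → R ≤ Subgroup.normalizer (V : Set Y) →
    R ≤ Subgroup.normalizer (K : Set Y) → R ≠ ⊥ →
    (∀ r ∈ R, r ≠ 1 → K ⊓ Subgroup.centralizer ({r} : Set Y) = ⊥) →
    Group.IsSolvable ↥(K ⊔ R) → Odd (Nat.card ↥(K ⊔ R)) →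
    (Nat.card ↥(K ⊔ R)).Coprime q →
    (∀ x ∈ R, x ≠ 1 → V ⊓ Subgroup.centralizer ({x} : Set Y) =
      V ⊓ Subgroup.centralizer (R : Set Y)) →
    IsCyclic ↥(V ⊓ Subgroup.centralizer (R : Set Y)) →
    ¬ K ≤ Subgroup.centralizer (V : Set Y) →
    (Nat.card ↥R).Prime

/-- [QUOTP] (L; main (hQP : Cfsg.Agent.Lib.Helper93.S64Stmt.QuotPrime) (hFM : FrobModP) : QuotP;
COPY of the landed proof of `Helper22.S56Stmt.Quot`, e.g. `Cfsg.Agent.Lib.Helper13.S56QUOT` /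
`Helper43` / `Helper34`) same hypotheses; if some `d ∈ D` does not centralize `O / N` then
`|R|` is prime.  As there `FrobModP` for `V := O.map π`, `K := D.map π`, `R' := R.map π`
(`π := mk' N`); `¬ K ≤ centralizer V` from the witness (`π d * π o ≠ π o * π d`); so
`(Nat.card R').Prime`, and `Nat.card R' = Nat.card R`: `π` is injective on `R`
(`x ∈ R ⊓ N ≤ R ⊓ H = ⊥` by `SetA.cop`). -/
def QuotP : Prop :=
  ∀ {X : Type u} [Group X] [Finite X] (H R D N : Subgroup X) [H.Normal] [N.Normal] (q : ℕ),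
    SetA X H R → SetB X H R q → ¬ q ∣ (Oq X H q).index →
    H ⊓ Subgroup.centralizer (R : Set X) ≤ Oq X H q →
    D ≤ H → D ⊓ Oq X H q = ⊥ → R ≤ Subgroup.normalizer (D : Set X) →
    N ≤ Oq X H q → (∀ a ∈ Oq X H q, a ^ q ∈ N) →
    (∀ a ∈ Oq X H q, ∀ b ∈ Oq X H q, a * b * a⁻¹ * b⁻¹ ∈ N) →
    (∃ d ∈ D, ∃ o ∈ Oq X H q, d * o * d⁻¹ * o⁻¹ ∉ N) →
    (Nat.card ↥R).Prime

/-- [NILPROD2] (M, pure; COPY of the landed proof of `Helper22.S56Stmt.NilProd`, e.g.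
`Cfsg.Agent.Lib.Helper74.S56NILPROD`, with `D` in place of `⁅D, D⁆`) `H = O D`, `H / O`
nilpotent, `D` centralizes `O`: `H` is nilpotent.  `D ≃ D.map π` is nilpotent; `L := O ⊔ D` is
nilpotent (image of `↥O × ↥D`); `H ≤ L` (`Cfsg.Agent.Lib.Helper70.PNilp.nilpotent_of_le`). -/
def NilProd2 : Prop :=
  ∀ {X : Type u} [Group X] [Finite X] (H O D : Subgroup X) [H.Normal] [O.Normal] (q : ℕ)
    [Fact q.Prime], IsPGroup q ↥O → O ≤ H → D ≤ H → D ⊓ O = ⊥ → H ≤ O ⊔ D →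
    Group.IsNilpotent ↥(H.map (QuotientGroup.mk' O)) →
    D ≤ Subgroup.centralizer (O : Set X) →
    Group.IsNilpotent ↥H

/-- [KPRIMEABS] (helper62: assembly of `SylNormal`, `SylNilp`, `HallD`, `Frat`, `Lift`, `QuotP`,
`NilProd2`). -/
def KPrimeAbs : Prop :=
  ∀ {X : Type u} [Group X] [Finite X] (H R : Subgroup X) [H.Normal] (q : ℕ),
    SetA X H R → SetB X H R q → ¬ Group.IsNilpotent ↥H → (Nat.card ↥R).Prime

/-- [QBETA] (M-L; main (hNP2 : NilProd2) (hSN : SylNormal) (hSP : SylNilp) (hGA : GlueA)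
(hGB : GlueB) : QBeta) `q = |K*| ∈ β(M)`.  `q` prime
(`Cfsg.Agent.S1373.result hG M hM K U hKU hK1 hU`), `q ∣ Nat.card M`.  If `q ∉ beta M`:
`((Cfsg.Agent.S1414.result hG M hM).2.2.2.2 q hq hqM hβ).2.1 :
HasNormalPComplement q ↥(sigmaCore M)`, i.e. a normal `L₀` of `↥(sigmaCore M)` complementing a
Sylow `q`-subgroup.  `X := ↥M`, `H := piCore (sigma M) ↥M` (`H.map M.subtype = sigmaCore M`),
`O := Oq X H q`: `¬ q ∣ O.index` (`hSN`), `H.map (mk' O)` nilpotent (`hSP`).  `L ≤ H` the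
subgroup of `↥M` corresponding to `L₀`: normalized by `H`, `|L|` prime to `q`, `|H| = |L| * q^n`;
so `L ⊓ O = ⊥`, `H ≤ O ⊔ L` (orders; `O` is a Sylow `q`-subgroup of `H`), and `L`
centralizes `O` (`⁅L, O⁆ ≤ L ⊓ O`, both normalized by `H ≥ L, O`).  `hNP2 H O L q ..` : `↥H`
nilpotent, so `sigmaCore M` is nilpotent (`Subgroup.equivMapOfInjective`,
`Group.nilpotent_of_mulEquiv`): contradiction. -/
def QBeta : Prop :=
  ∀ {G : Type u} [Group G] [Finite G], Cfsg.IsMinSimpleOddOrder G →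
  ∀ (M K U : Subgroup G), IsCoatom M → Cfsg.IsSigmaDecomposition M K U → K ≠ ⊥ → U = ⊥ →
    ¬ Group.IsNilpotent ↥(Cfsg.sigmaCore M) →
    Nat.card ↥(Cfsg.sigmaCore M ⊓ Subgroup.centralizer (K : Set G)) ∈ Cfsg.beta M

/-- [NILCOMM] (S-M, pure) elements of coprime orders in a finite nilpotent group commute.
Sylow subgroups are normal (`(Group.isNilpotent_of_finite_tfae.out 0 3).mp`); induction on
`orderOf a`, or: `⁅a, b⁆` lies in ... ; e.g. reduce to prime-power orders via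
`exists_pow_eq_self_of_coprime`, then `a ∈ P`, `b ∈ Q` normal Sylow subgroups for different
primes, `Subgroup.commute_of_normal_of_disjoint`.  (The landed proofs of
`Helper22.S56Stmt.FLe2` contain this argument.) -/
def NilComm : Prop :=
  ∀ {F : Type u} [Group F] [Finite F], Group.IsNilpotent F →
    ∀ a b : F, (orderOf a).Coprime (orderOf b) → a * b = b * a

/-- [TICORE] (L; main (hNC : NilComm) : TICore) `F(M)` is a TI-subset.
`g ∉ normalizer F`, `x ∈ F := fittingOf M`, `g * x * g⁻¹ ∈ F`, suppose `x ≠ 1`.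
(0) `g ∉ M` (`Cfsg.Agent.Lib.Helper90.Bender.le_normalizer_fittingOf M`).
(1) `x ∈ sigmaCore M`; `x ∈ M.map (MulAut.conj g⁻¹).toMonoidHom` (as `g * x * g⁻¹ ∈ F ≤ M`).
(2) `E := K ⊔ U`, `hE := (Cfsg.Agent.Lib.Helper90.BG14U.uset_of_decomp hG hM hKU).compl`;
`((Cfsg.Agent.S1426.result hG M hM E hE).2.2 g⁻¹ _).2.1` : no prime divisor of
`|sigmaCore M ⊓ M.map (conj g⁻¹)|` is in `beta M`.
(3) `r` a prime dividing `orderOf x`: `r ∉ beta M`, so `r ≠ q`.  `x₁ := x ^ (orderOf x / r)` has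
order `r`, lies in `F`, in `sigmaCore M` and in `M.map (conj g⁻¹)`.
(4) `¬ centralizer {x₁} ≤ M`: `Cfsg.Agent.S1374.result hG M hM x₁ _ _` gives `R` with
`IsComplIn _ R (centralizer {x₁})` and, for `g⁻¹`, an `r' ∈ R` with
`M.map (conj r') = M.map (conj g⁻¹)`; if `centralizer {x₁} ≤ M` then `r' ∈ M`, so
`M.map (conj g⁻¹) = M`, `g⁻¹ ∈ normalizer M = M`
(`Cfsg.Agent.Lib.Helper9.BG11b.normalizer_eq hG hM (coatom_ne_bot hG hM) le_rfl
Subgroup.le_normalizer`).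
(5) `Cfsg.Agent.S1375.result hG M hM x₁ _ _ _` : a coatom `N ≥ centralizer {x₁}` with
`IsComplIn (M ⊓ N) (sigmaCore N) N`.
(6) `hqβ.1.2 : ¬ PRankLE q 2 ↥M` gives `A : Subgroup ↥M`, commutative, `a ^ q = 1` on `A`,
`q ^ 2 < Nat.card A`.  For `a ∈ A`: `(a : G) ∈ F` (hypothesis), `orderOf a ∣ q` is prime to
`r = orderOf x₁`, `F` is nilpotent (`Cfsg.Agent.Lib.Helper90.Bender.fittingOf_isNilpotent M`), so
`a` commutes with `x₁` (`hNC` in `↥F`): `A.map M.subtype ≤ M ⊓ N`.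
(7) `(A.map M.subtype).subgroupOf N` shows `¬ PRankLE q 2 ↥N`, so `q ∈ alpha N`, `q ∈ sigma N`
(`Cfsg.Agent.Lib.Helper9.BG10b.alpha_subset_sigma hG (fun K => Cfsg.Agent.S1403.result hG K) hN`),
`¬ q ∣ (sigmaCore N).relIndex N` (`(Cfsg.Agent.S1350.result hG N hN).1.2.2`), so every element of
`A.map M.subtype` lies in `sigmaCore N`
(`Cfsg.Agent.Lib.Helper62.S72BETA.mem_of_coprime_index` in `↥N`): `A.map M.subtype ≤
(M ⊓ N) ⊓ sigmaCore N = ⊥`, so `Nat.card A = 1`: contradiction. -/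
def TICore : Prop :=
  ∀ {G : Type u} [Group G] [Finite G], Cfsg.IsMinSimpleOddOrder G →
  ∀ (M K U : Subgroup G) (q : ℕ), IsCoatom M → Cfsg.IsSigmaDecomposition M K U →
    Cfsg.fittingOf M ≤ Cfsg.sigmaCore M → q ∈ Cfsg.beta M →
    (∀ a ∈ M, a ^ q = 1 → a ∈ Cfsg.fittingOf M) →
    Cfsg.IsTISubset (Cfsg.fittingOf M : Set G)

end Cfsg.Agent.Lib.Helper62.S57Stmt
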