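import Mathlib
import Cfsg.Agent.Lib.Helper93.S64Stmt
import Cfsg.Agent.S1445
import Cfsg.Agent.Lib.Helper55.SolvCore
import Cfsg.Agent.Lib.Helper90.Bender
import Cfsg.Agent.Lib.Helper62.S55Stmt

/-!
# S1355 / SYLNILP (helper62): `H / O_q(H)` is nilpotent (same proof as S64SYLN)
-/

set_option autoImplicit false

namespace Cfsg.Agent.Lib.Helper62.S55SYLNILP

universe u

open Cfsg Cfsg.Agent.Lib.Helper93.S64Stmt Cfsg.Agent.Lib.Helper62.S55Stmt
open scoped commutatorElement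

set_option maxHeartbeats 1600000 in
theorem core {X : Type u} [Group X] [Finite X] (H R O : Subgroup X) [H.Normal] [O.Normal] (q : ℕ)
    (hq : q.Prime) [Group.IsSolvable X] (hodd : Odd (Nat.card X)) (hne : R ≠ ⊥)
    (hsup : H ⊔ R = ⊤) (hcop : (Nat.card H).Coprime (Nat.card R))
    (hcard : Nat.card ↥(H ⊓ Subgroup.centralizer (R : Set X)) = q)
    (hder : H ⊓ Subgroup.centralizer (R : Set X) ≤ ⁅H, H⁆)
    (hOle : O ≤ H)
    (hQ' : ∀ y ∈ R.map (QuotientGroup.mk' O), y ≠ 1 →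
      H.map (QuotientGroup.mk' O) ⊓ Subgroup.centralizer ({y} : Set (X ⧸ O)) =
        (H ⊓ Subgroup.centralizer (R : Set X)).map (QuotientGroup.mk' O))
    (hFq : ¬ q ∣ Nat.card ↥(Cfsg.fittingOf (H.map (QuotientGroup.mk' O))))
    (hD : Decomp.{u}) :
    Group.IsNilpotent ↥(H.map (QuotientGroup.mk' O)) := by
  classical
  have hπs : Function.Surjective (QuotientGroup.mk' O) := QuotientGroup.mk'_surjective O
  obtain ⟨π, hπdef⟩ : ∃ π : X →* X ⧸ O, π = QuotientGroup.mk' O := ⟨_, rfl⟩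
  rw [← hπdef] at hQ' hFq hπs ⊢
  have hker : ∀ c : X, π c = 1 ↔ c ∈ O := by
    intro c; rw [hπdef]; exact QuotientGroup.eq_one_iff c
  obtain ⟨C, hCdef⟩ : ∃ C : Subgroup X, C = H ⊓ Subgroup.centralizer (R : Set X) := ⟨_, rfl⟩
  rw [← hCdef] at hQ' hcard hder
  have hCH : C ≤ H := hCdef ▸ inf_le_left
  have hCR : ∀ c ∈ C, ∀ x ∈ R, x * c = c * x := by
    intro c hc x hx
    rw [hCdef] at hc
    exact (Subgroup.mem_centralizer_iff.mp hc.2 x hx)
  have hodd' : Odd (Nat.card (X ⧸ O)) := Odd.of_dvd_nat hodd (Subgroup.card_quotient_dvd_card O)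
  haveI hHbn : (H.map π).Normal := Subgroup.Normal.map inferInstance π hπs
  have hsup' : H.map π ⊔ R.map π = ⊤ := by
    rw [← Subgroup.map_sup, hsup, Subgroup.map_top_of_surjective π hπs]
  have hcop' : (Nat.card ↥(H.map π)).Coprime (Nat.card ↥(R.map π)) :=
    Nat.Coprime.coprime_dvd_left (H.card_map_dvd π)
      (Nat.Coprime.coprime_dvd_right (R.card_map_dvd π) hcop)
  -- an element of prime order in `R`
  obtain ⟨r, hr, x₀, hx₀R, hx₀ord⟩ : ∃ r : ℕ, r.Prime ∧ ∃ x ∈ R, orderOf x = r := by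
    have hcardR : Nat.card R ≠ 1 := by
      rw [Ne, Subgroup.card_eq_one]; exact hne
    obtain ⟨r, hr, hdvd⟩ := Nat.exists_prime_and_dvd hcardR
    haveI : Fact r.Prime := ⟨hr⟩
    obtain ⟨y, hy⟩ := exists_prime_orderOf_dvd_card' r hdvd
    exact ⟨r, hr, y, y.2, by rw [Subgroup.orderOf_coe]; exact hy⟩
  have hπx₀ : π x₀ ≠ 1 := by
    intro h1
    have hxO : x₀ ∈ O := (hker x₀).mp h1
    have hxH : x₀ ∈ H := hOle hxO
    have h2 : orderOf x₀ ∣ Nat.card ↥H := Subgroup.orderOf_dvd_natCard H hxH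
    have h3 : orderOf x₀ ∣ Nat.card ↥R := Subgroup.orderOf_dvd_natCard R hx₀R
    have h4 : orderOf x₀ ∣ 1 := by
      have := Nat.dvd_gcd h2 h3
      rwa [Nat.Coprime.gcd_eq_one hcop] at this
    rw [hx₀ord] at h4
    exact hr.one_lt.ne' (Nat.dvd_one.mp h4)
  have hπx₀R : π x₀ ∈ R.map π := Subgroup.mem_map_of_mem π hx₀R
  have hπx₀ord : orderOf (π x₀) = r := by
    have h1 : orderOf (π x₀) ∣ r := hx₀ord ▸ orderOf_map_dvd π x₀
    rcases (Nat.dvd_prime hr).mp h1 with h | h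
    · exact absurd (orderOf_eq_one_iff.mp h) hπx₀
    · exact h
  -- the fixed points of the image of `R`
  have hfix : H.map π ⊓ Subgroup.centralizer ((R.map π : Subgroup (X ⧸ O)) : Set (X ⧸ O)) =
      C.map π := by
    apply le_antisymm
    · rw [← hQ' (π x₀) hπx₀R hπx₀]
      apply inf_le_inf_left
      apply Subgroup.centralizer_le
      exact Set.singleton_subset_iff.mpr hπx₀R
    · rintro _ ⟨c, hc, rfl⟩
      refine Subgroup.mem_inf.mpr ⟨Subgroup.mem_map_of_mem π (hCH hc), ?_⟩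
      rw [Subgroup.mem_centralizer_iff]
      rintro _ ⟨x, hx, rfl⟩
      rw [← map_mul, ← map_mul, hCR c hc x hx]
  have hprime' : ∀ y ∈ R.map π, y ≠ 1 →
      H.map π ⊓ Subgroup.centralizer ({y} : Set (X ⧸ O)) =
      H.map π ⊓ Subgroup.centralizer ((R.map π : Subgroup (X ⧸ O)) : Set (X ⧸ O)) := by
    intro y hy hy1
    rw [hfix]; exact hQ' y hy hy1
  have hCq : ∀ c ∈ C, c ^ q = 1 := by
    intro c hc
    have h1 : orderOf c ∣ Nat.card ↥C := Subgroup.orderOf_dvd_natCard C hc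
    rw [hcard] at h1
    exact orderOf_dvd_iff_pow_eq_one.mp h1
  have hFble : Cfsg.fittingOf (H.map π) ≤ H.map π := Subgroup.map_subtype_le _
  have hF0 : Cfsg.fittingOf (H.map π) ⊓
      Subgroup.centralizer ((R.map π : Subgroup (X ⧸ O)) : Set (X ⧸ O)) = ⊥ := by
    rw [eq_bot_iff]
    intro y hy
    obtain ⟨hyF, hyC⟩ := Subgroup.mem_inf.mp hy
    have hyCb : y ∈ C.map π := by
      rw [← hfix]; exact Subgroup.mem_inf.mpr ⟨hFble hyF, hyC⟩
    obtain ⟨c, hc, rfl⟩ := hyCb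
    have h1 : orderOf (π c) ∣ q := by
      apply orderOf_dvd_of_pow_eq_one
      rw [← map_pow, hCq c hc, map_one]
    have h2 : orderOf (π c) ∣ Nat.card ↥(Cfsg.fittingOf (H.map π)) :=
      Subgroup.orderOf_dvd_natCard _ hyF
    rcases (Nat.dvd_prime hq).mp h1 with h | h
    · exact Subgroup.mem_bot.mpr (orderOf_eq_one_iff.mp h)
    · rw [h] at h2; exact absurd h2 hFq
  have h1445 : ⁅H.map π, R.map π⁆ ≤ Cfsg.fittingOf (H.map π) :=
    Cfsg.Agent.S1445.result hodd' (H.map π) (R.map π) hsup' hcop' hprime' hF0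
  haveI hFbn : (Cfsg.fittingOf (H.map π)).Normal := by
    haveI := Cfsg.Agent.S3766.fitting_characteristic ↥(H.map π)
    exact ConjAct.normal_of_characteristic_of_normal
  have hdec : H.map π ≤ (H.map π ⊓ Subgroup.centralizer ({π x₀} : Set (X ⧸ O))) ⊔
      Cfsg.fittingOf (H.map π) :=
    hD (H.map π) (R.map π) (Cfsg.fittingOf (H.map π)) hHbn hFbn hFble hcop' h1445 (π x₀) hπx₀R
      (hπx₀ord ▸ hr)
  rw [hQ' (π x₀) hπx₀R hπx₀] at hdec
  -- `C` is commutative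
  have hCcomm : ∀ c₁ ∈ C, ∀ c₂ ∈ C, c₁ * c₂ = c₂ * c₁ := by
    haveI : Fact q.Prime := ⟨hq⟩
    have hcyc : IsCyclic ↥C := isCyclic_of_prime_card hcard
    obtain ⟨g, hg⟩ := hcyc.exists_generator
    intro c₁ hc₁ c₂ hc₂
    obtain ⟨m, hm⟩ := Subgroup.mem_zpowers_iff.mp (hg ⟨c₁, hc₁⟩)
    obtain ⟨n, hn⟩ := Subgroup.mem_zpowers_iff.mp (hg ⟨c₂, hc₂⟩)
    have := zpow_mul_comm g m n
    rw [hm, hn] at this
    exact congrArg Subtype.val this
  -- the derived subgroup of the image of `H` lies in its Fitting subgroup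
  have hcomm : ⁅H.map π, H.map π⁆ ≤ Cfsg.fittingOf (H.map π) := by
    rw [Subgroup.commutator_le]
    intro a ha b hb
    obtain ⟨c₁, hc₁, f₁, hf₁, rfl⟩ := Subgroup.mem_sup_of_normal_right.mp (hdec ha)
    obtain ⟨c₂, hc₂, f₂, hf₂, rfl⟩ := Subgroup.mem_sup_of_normal_right.mp (hdec hb)
    obtain ⟨d₁, hd₁, rfl⟩ := hc₁
    obtain ⟨d₂, hd₂, rfl⟩ := hc₂
    have e3 : Commute (π d₁) (π d₂) := by
      show π d₁ * π d₂ = π d₂ * π d₁
      rw [← map_mul, ← map_mul, hCcomm d₁ hd₁ d₂ hd₂]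
    have key : (QuotientGroup.mk' (Cfsg.fittingOf (H.map π))) ⁅π d₁ * f₁, π d₂ * f₂⁆ = 1 := by
      have e1 : (QuotientGroup.mk' (Cfsg.fittingOf (H.map π))) f₁ = 1 :=
        (QuotientGroup.eq_one_iff f₁).mpr hf₁
      have e2 : (QuotientGroup.mk' (Cfsg.fittingOf (H.map π))) f₂ = 1 :=
        (QuotientGroup.eq_one_iff f₂).mpr hf₂
      rw [map_commutatorElement, map_mul, map_mul, e1, e2, mul_one, mul_one,
        ← map_commutatorElement, commutatorElement_eq_one_iff_commute.mpr e3, map_one]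
    exact (QuotientGroup.eq_one_iff _).mp key
  have hCbder : C.map π ≤ ⁅H.map π, H.map π⁆ := by
    rw [← Subgroup.map_commutator]
    exact Subgroup.map_mono hder
  have hHbF : H.map π ≤ Cfsg.fittingOf (H.map π) :=
    hdec.trans (sup_le (hCbder.trans hcomm) le_rfl)
  have e : Cfsg.fittingOf (H.map π) = H.map π := le_antisymm hFble hHbF
  have htr : ∀ A B : Subgroup (X ⧸ O), A = B → Group.IsNilpotent ↥A → Group.IsNilpotent ↥B := by
    intro A B h; subst h; exact id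
  exact htr _ _ e (Cfsg.Agent.Lib.Helper90.Bender.fittingOf_isNilpotent (H.map π))

/-- [SYLNILP] -/
theorem main (hQ : QuotPrime.{u}) (hF : FitQ.{u}) (hD : Decomp.{u}) : SylNilp.{u} := by
  intro X _ _ H R hHn q hA hB
  obtain ⟨hsolv, hodd, hne, hsup, hcop, hprime⟩ := hA
  obtain ⟨hq, hcard, hder⟩ := hB
  haveI := hsolv
  exact core H R (Oq X H q) q hq hodd hne hsup hcop hcard hder (Oq_le X H q)
    (hQ H R (Oq X H q) (Oq_le X H q) hcop hprime) (hF H q hq) hD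

end Cfsg.Agent.Lib.Helper62.S55SYLNILP
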