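import Mathlib
import Cfsg.Agent.Lib.Helper16.BRStmt

set_option autoImplicit false

universe u

/-!
Piece PH1 of S0999/S4701 (for helper16): a generator `y` of a complement of `P` in `N_G(P)`
when `|P| = p` and `C_G(P) = P`.
-/

namespace Cfsg.Agent.Lib.Helper62.BRPH1

theorem zpowers_eq_of_prime {G : Type u} [Group G] [Finite G] {p : ℕ} [Fact p.Prime]
    (P : Subgroup G) (hP : Nat.card P = p) {u : G} (hu : u ∈ P) (hu1 : u ≠ 1) :
    Subgroup.zpowers u = P := by
  have hp : p.Prime := Fact.out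
  have hle : Subgroup.zpowers u ≤ P := by
    rw [Subgroup.zpowers_le]; exact hu
  apply Subgroup.eq_of_le_of_card_ge hle
  rw [Nat.card_zpowers, hP]
  have hdvd : orderOf u ∣ p := by
    have h1 : orderOf (⟨u, hu⟩ : P) ∣ Nat.card P := orderOf_dvd_natCard _
    rw [hP] at h1
    have h2 : orderOf (⟨u, hu⟩ : P) = orderOf u := by
      rw [← Subgroup.orderOf_coe]
    rwa [h2] at h1
  rcases (Nat.dvd_prime hp).mp hdvd with h | h
  · exact absurd (orderOf_eq_one_iff.mp h) hu1
  · exact h.ge

theorem mem_of_commute {G : Type u} [Group G] [Finite G] {p : ℕ} [Fact p.Prime]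
    (P : Subgroup G) (hP : Nat.card P = p)
    (hC : Subgroup.centralizer (P : Set G) = P) {w u : G} (hu : u ∈ P) (hu1 : u ≠ 1)
    (hwu : w * u = u * w) : w ∈ P := by
  rw [← hC, Subgroup.mem_centralizer_iff]
  intro v hv
  have hv' : v ∈ Subgroup.zpowers u := by
    rw [zpowers_eq_of_prime P hP hu hu1]; exact hv
  obtain ⟨k, rfl⟩ := Subgroup.mem_zpowers_iff.mp hv'
  exact ((Commute.zpow_left (show Commute u w from hwu.symm) k)).eq

theorem main : Cfsg.Agent.Lib.Helper16.BRStmt.ExistsGen.{u} := by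
  intro G _ _ p _ P hP hC e hN
  classical
  have hp : p.Prime := Fact.out
  have hPN : (P : Subgroup G) ≤ Subgroup.normalizer ((P : Subgroup G) : Set G) :=
    Subgroup.le_normalizer
  have he0 : e ≠ 0 := by
    rintro rfl
    rw [mul_zero] at hN
    exact (Nat.card_pos (α := Subgroup.normalizer ((P : Subgroup G) : Set G))).ne' hN
  have : Fact (Nat.card (P : Subgroup G)).Prime := ⟨by rw [hP]; exact hp⟩
  have hcycP : IsCyclic (P : Subgroup G) := isCyclic_of_prime_card (p := p) hP
  have : IsCyclic (MulAut (P : Subgroup G)) :=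
    isCyclic_of_injective (IsCyclic.mulAutMulEquiv (P : Subgroup G)).toMonoidHom
      (MulEquiv.injective _)
  let φ : Subgroup.normalizer ((P : Subgroup G) : Set G) →* MulAut (P : Subgroup G) :=
    (P : Subgroup G).normalizerMonoidHom
  have hker : φ.ker = ((P : Subgroup G)).subgroupOf
      (Subgroup.normalizer ((P : Subgroup G) : Set G)) := by
    show (P : Subgroup G).normalizerMonoidHom.ker = _
    rw [Subgroup.normalizerMonoidHom_ker, hC]
  have hmemker : ∀ n : Subgroup.normalizer ((P : Subgroup G) : Set G),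
      φ n = 1 ↔ (n : G) ∈ (P : Subgroup G) := by
    intro n
    rw [← MonoidHom.mem_ker, hker, Subgroup.mem_subgroupOf]
  -- the range has order e
  have hcardrange : Nat.card φ.range = e := by
    have h1 : φ.ker.index = Nat.card φ.range := Subgroup.index_ker φ
    have h2 : Nat.card φ.ker * φ.ker.index
        = Nat.card (Subgroup.normalizer ((P : Subgroup G) : Set G)) := Subgroup.card_mul_index _
    have h3 : Nat.card φ.ker = p := by
      rw [hker]
      exact (Nat.card_congr (Subgroup.subgroupOfEquivOfLe hPN).toEquiv).trans hP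
    rw [h3, hN, h1] at h2
    exact Nat.eq_of_mul_eq_mul_left hp.pos h2
  have hedvd : e ∣ p - 1 := by
    have h1 : Nat.card φ.range ∣ Nat.card (MulAut (P : Subgroup G)) :=
      Subgroup.card_subgroup_dvd_card _
    rw [hcardrange, IsCyclic.card_mulAut, hP, Nat.totient_prime hp] at h1
    exact h1
  have hcop : Nat.Coprime e p := by
    have h1 : Nat.Coprime (p - 1) p := by
      have : Nat.Coprime p (p - 1) := by
        rw [Nat.Prime.coprime_iff_not_dvd hp]
        intro hd
        have hpos : 0 < p - 1 := Nat.sub_pos_of_lt hp.one_lt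
        exact absurd (Nat.le_of_dvd hpos hd) (by omega)
      exact this.symm
    exact Nat.Coprime.coprime_dvd_left hedvd h1
  -- a generator of the range
  obtain ⟨⟨a, ha⟩, hgen⟩ := IsCyclic.exists_generator (α := φ.range)
  obtain ⟨g₀, rfl⟩ := ha
  have hord0 : orderOf (φ g₀) = e := by
    have h1 := orderOf_eq_card_of_forall_mem_zpowers hgen
    rw [hcardrange] at h1
    rw [← h1, ← Subgroup.orderOf_coe]
  have hordy : orderOf (φ (g₀ ^ p)) = e := by
    rw [map_pow, Nat.Coprime.orderOf_pow (by rw [hord0]; exact hcop), hord0]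
  have hrange : ∀ n : Subgroup.normalizer ((P : Subgroup G) : Set G),
      φ n ∈ Subgroup.zpowers (φ (g₀ ^ p)) := by
    intro n
    have hle : Subgroup.zpowers (φ (g₀ ^ p)) ≤ φ.range := by
      rw [Subgroup.zpowers_le]; exact ⟨_, rfl⟩
    have heq : Subgroup.zpowers (φ (g₀ ^ p)) = φ.range := by
      apply Subgroup.eq_of_le_of_card_ge hle
      rw [Nat.card_zpowers, hordy, hcardrange]
    rw [heq]; exact ⟨n, rfl⟩
  have hpowe : ∀ n : Subgroup.normalizer ((P : Subgroup G) : Set G), φ n ^ e = 1 := by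
    intro n
    obtain ⟨k, hk⟩ := Subgroup.mem_zpowers_iff.mp (hrange n)
    rw [← hk, ← zpow_natCast, ← zpow_mul, mul_comm, zpow_mul, zpow_natCast, ← hordy,
      pow_orderOf_eq_one, one_zpow]
  -- y := g₀ ^ p
  have hye : (g₀ ^ p) ^ e = 1 := by
    have h1 : φ (g₀ ^ e) = 1 := by rw [map_pow]; exact hpowe g₀
    have h2 : ((g₀ ^ e : Subgroup.normalizer ((P : Subgroup G) : Set G)) : G)
        ∈ (P : Subgroup G) := (hmemker _).mp h1
    have h3 : (⟨_, h2⟩ : (P : Subgroup G)) ^ Nat.card (P : Subgroup G) = 1 :=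
      pow_card_eq_one'
    rw [hP] at h3
    have h4 : (((g₀ ^ e : Subgroup.normalizer ((P : Subgroup G) : Set G)) : G)) ^ p = 1 := by
      have := congrArg (Subtype.val) h3
      simpa using this
    rw [← pow_mul, mul_comm, pow_mul]
    apply Subtype.ext
    simpa using h4
  have hordy₀ : orderOf (g₀ ^ p) = e := by
    apply Nat.dvd_antisymm (orderOf_dvd_of_pow_eq_one hye)
    rw [← hordy]
    exact orderOf_map_dvd φ _
  have hyN : ((g₀ ^ p : Subgroup.normalizer ((P : Subgroup G) : Set G)) : G)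
      ∈ Subgroup.normalizer ((P : Subgroup G) : Set G) := (g₀ ^ p).2
  have hnotP : ∀ j, 0 < j → j < e →
      ((g₀ ^ p : Subgroup.normalizer ((P : Subgroup G) : Set G)) : G) ^ j
        ∉ (P : Subgroup G) := by
    intro j hj0 hje hmem
    have h1 : φ ((g₀ ^ p) ^ j) = 1 := by
      rw [hmemker]; simpa using hmem
    rw [map_pow] at h1
    have h2 := orderOf_dvd_of_pow_eq_one h1
    rw [hordy] at h2
    exact absurd (Nat.le_of_dvd hj0 h2) (by omega)
  refine ⟨((g₀ ^ p : Subgroup.normalizer ((P : Subgroup G) : Set G)) : G), hyN, ?_, hnotP,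
    ?_, ?_, ?_⟩
  · rw [Subgroup.orderOf_coe]; exact hordy₀
  · -- decomposition
    intro g hg
    obtain ⟨k, hk⟩ := Subgroup.mem_zpowers_iff.mp (hrange ⟨g, hg⟩)
    have hepos : (0 : ℤ) < (e : ℤ) := by exact_mod_cast Nat.pos_of_ne_zero he0
    have hk' : φ (g₀ ^ p) ^ (k % (e : ℤ)) = φ ⟨g, hg⟩ := by
      rw [← hk, ← hordy]; exact zpow_mod_orderOf _ _
    have hnn : 0 ≤ k % (e : ℤ) := Int.emod_nonneg _ hepos.ne'
    have hlt : k % (e : ℤ) < e := Int.emod_lt_of_pos _ hepos
    obtain ⟨j, hj⟩ := Int.eq_ofNat_of_zero_le hnn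
    rw [hj, zpow_natCast] at hk'
    have hje : j < e := by
      have : (j : ℤ) < e := by rw [← hj]; exact hlt
      exact_mod_cast this
    have h1 : φ (⟨g, hg⟩ * ((g₀ ^ p) ^ j)⁻¹) = 1 := by
      rw [map_mul, map_inv, map_pow, hk', mul_inv_cancel]
    have h2 := (hmemker _).mp h1
    refine ⟨g * (((g₀ ^ p : Subgroup.normalizer ((P : Subgroup G) : Set G)) : G) ^ j)⁻¹,
      by simpa using h2, j, hje, ?_⟩
    rw [inv_mul_cancel_right]
  · -- p-regularity outside P
    intro g hg hgP hpdvd
    obtain ⟨m, hm⟩ := hpdvd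
    have hm0 : 0 < m := by
      rcases Nat.eq_zero_or_pos m with h | h
      · rw [h, mul_zero] at hm
        exact absurd hm (orderOf_pos g).ne'
      · exact h
    have hmlt : m < orderOf g := by
      rw [hm]; nlinarith [hp.two_le]
    have hgm1 : g ^ m ≠ 1 := pow_ne_one_of_lt_orderOf hm0.ne' hmlt
    have h1 : (φ ⟨g, hg⟩ ^ m) ^ p = 1 := by
      rw [← pow_mul, mul_comm, ← hm, ← map_pow]
      have : (⟨g, hg⟩ : Subgroup.normalizer ((P : Subgroup G) : Set G)) ^ orderOf g = 1 := by
        apply Subtype.ext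
        simp [pow_orderOf_eq_one]
      rw [this, map_one]
    have h2 : (φ ⟨g, hg⟩ ^ m) ^ e = 1 := by
      rw [← pow_mul, mul_comm, pow_mul, hpowe, one_pow]
    have h3 : orderOf (φ ⟨g, hg⟩ ^ m) ∣ Nat.gcd p e :=
      Nat.dvd_gcd (orderOf_dvd_of_pow_eq_one h1) (orderOf_dvd_of_pow_eq_one h2)
    rw [hcop.symm.gcd_eq_one, Nat.dvd_one, orderOf_eq_one_iff] at h3
    have h4 : φ (⟨g, hg⟩ ^ m) = 1 := by rw [map_pow]; exact h3
    have h5 : g ^ m ∈ (P : Subgroup G) := by
      have := (hmemker _).mp h4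
      simpa using this
    have hcomm : g * g ^ m = g ^ m * g := by
      rw [← pow_succ', ← pow_succ]
    exact hgP (mem_of_commute (P : Subgroup G) hP hC h5 hgm1 hcomm)
  · -- conjugacy
    intro x hx j hj0 hje
    set w : G := ((g₀ ^ p : Subgroup.normalizer ((P : Subgroup G) : Set G)) : G) ^ j with hw
    have hwP : w ∉ (P : Subgroup G) := hnotP j hj0 hje
    have hwN : w ∈ Subgroup.normalizer ((P : Subgroup G) : Set G) :=
      Subgroup.pow_mem _ hyN j
    have hconj : ∀ u : G, u ∈ (P : Subgroup G) → w * u * w⁻¹ ∈ (P : Subgroup G) := by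
      intro u hu
      exact (Subgroup.mem_normalizer_iff.mp hwN u).mp hu
    let ψ : ↥(P : Subgroup G) → ↥(P : Subgroup G) := fun u =>
      ⟨(u : G) * (w * (u : G)⁻¹ * w⁻¹), (P : Subgroup G).mul_mem u.2
        (hconj _ ((P : Subgroup G).inv_mem u.2))⟩
    have hinj : Function.Injective ψ := by
      intro u v huv
      have h1 : (u : G) * (w * (u : G)⁻¹ * w⁻¹) = (v : G) * (w * (v : G)⁻¹ * w⁻¹) :=
        congrArg Subtype.val huv
      by_contra hne
      have h2 : (v : G)⁻¹ * (u : G) ≠ 1 := by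
        intro h
        apply hne
        apply Subtype.ext
        have := inv_mul_eq_one.mp h
        exact this.symm
      have h3 : w * ((v : G)⁻¹ * (u : G)) = ((v : G)⁻¹ * (u : G)) * w := by
        have h4 : (u : G) * w * (u : G)⁻¹ = (v : G) * w * (v : G)⁻¹ := by
          have := congrArg (fun z => z * w) h1
          simpa [mul_assoc] using this
        calc w * ((v : G)⁻¹ * (u : G))
            = (v : G)⁻¹ * ((v : G) * w * (v : G)⁻¹) * (u : G) := by group
          _ = (v : G)⁻¹ * ((u : G) * w * (u : G)⁻¹) * (u : G) := by rw [h4]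
          _ = ((v : G)⁻¹ * (u : G)) * w := by group
      exact hwP (mem_of_commute (P : Subgroup G) hP hC
        ((P : Subgroup G).mul_mem ((P : Subgroup G).inv_mem v.2) u.2) h2 h3)
    have hsurj : Function.Surjective ψ := Finite.injective_iff_surjective.mp hinj
    obtain ⟨u, hu⟩ := hsurj ⟨x, hx⟩
    have hu' : (u : G) * (w * (u : G)⁻¹ * w⁻¹) = x := congrArg Subtype.val hu
    rw [isConj_comm, isConj_iff]
    refine ⟨(u : G), ?_⟩
    rw [← hu']; group

end Cfsg.Agent.Lib.Helper62.BRPH1
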