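import Mathlib
import Cfsg.Agent.Lib.Helper32.D8Stmt

set_option autoImplicit false

namespace Cfsg.Agent.Lib.Helper62.D8RED2

open Cfsg Cfsg.Agent.Lib.Helper32

universe u

/-- A nonzero value of an extension by zero is taken on the subgroup. -/
theorem ext_ne_zero {G : Type u} [Group G] (H : Subgroup G) (θ : H → ℂ) (v : G)
    (h : extendByZero H θ v ≠ 0) : ∃ hv : v ∈ H, θ ⟨v, hv⟩ ≠ 0 := by
  by_cases hv : v ∈ H
  · refine ⟨hv, ?_⟩
    have h1 : extendByZero H θ v = θ ⟨v, hv⟩ :=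
      Subtype.val_injective.extend_apply θ 0 ⟨v, hv⟩
    rwa [h1] at h
  · exfalso
    apply h
    unfold extendByZero
    rw [Function.extend_apply']
    · rfl
    · rintro ⟨a, rfl⟩
      exact hv a.2

theorem main (hNF : D8Stmt.NF.{u}) (hTI : D8Stmt.TI.{u}) : D8Stmt.RED2.{u} := by
  intro G _ _ T N x y a b w hc f g hOm u₁ u₂ hu₁ hu₂ hsupp
  obtain ⟨hT, hN, huniq, hprod, hC, hfg, hcardC⟩ := hNF hc
  -- `v = u₁ u₂ ∈ C_G(x)` and `f v ≠ 1`
  obtain ⟨hvC, hfv⟩ : ∃ hvC : u₁ * u₂ ∈ Subgroup.centralizer ({x} : Set G),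
      f ⟨u₁ * u₂, hvC⟩ ≠ 1 := by
    rcases hsupp with h | h
    · obtain ⟨hvC, h1⟩ := ext_ne_zero _ _ _ h
      refine ⟨hvC, fun h2 => h1 ?_⟩
      simp [D8Stmt.ph1, h2]
    · obtain ⟨hvC, h1⟩ := ext_ne_zero _ _ _ h
      refine ⟨hvC, fun h2 => h1 ?_⟩
      simp [D8Stmt.ph2, h2]
  obtain ⟨i, j, l, hvijl⟩ := (hC (u₁ * u₂)).1 hvC
  have hxC : x ∈ Subgroup.centralizer ({x} : Set G) := by
    rw [Subgroup.mem_centralizer_iff]
    intro h hh
    rw [Set.mem_singleton_iff] at hh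
    rw [hh]
  have hfx3 : f ⟨x, hxC⟩ ^ 3 = 1 := by
    rw [← map_pow]
    have h1 : (⟨x, hxC⟩ : Subgroup.centralizer ({x} : Set G)) ^ 3 = 1 :=
      Subtype.ext (by simpa using hc.x3)
    rw [h1, map_one]
  have hi : ¬ 3 ∣ i := by
    rintro ⟨k, rfl⟩
    apply hfv
    have hmem : x ^ (3 * k) * y ^ j * b ^ l ∈ Subgroup.centralizer ({x} : Set G) := by
      rw [← hvijl]; exact hvC
    have h1 := (hfg f g hOm (3 * k) j l hmem hxC).1
    have h2 : f ⟨u₁ * u₂, hvC⟩ = f ⟨x ^ (3 * k) * y ^ j * b ^ l, hmem⟩ :=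
      congrArg f (Subtype.ext hvijl)
    rw [h2, h1, pow_mul, hfx3, one_pow]
  haveI : Fact (Nat.Prime 3) := ⟨Nat.prime_three⟩
  have hx_ord : orderOf x = 3 := orderOf_eq_prime hc.x3 hc.x1
  have hxne : ∀ n : ℕ, ¬ 3 ∣ n → x ^ n ≠ 1 := by
    intro n hn h
    apply hn
    rw [← hx_ord]; exact orderOf_dvd_of_pow_eq_one h
  -- a nonidentity power of `v` in `T`
  obtain ⟨e, heT, he1⟩ : ∃ e : ℕ, (u₁ * u₂) ^ e ∈ T ∧ (u₁ * u₂) ^ e ≠ 1 := by
    rcases Nat.even_or_odd l with ⟨m, hm⟩ | ⟨m, hm⟩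
    · have hbl : b ^ l = 1 := by rw [hm, ← two_mul, pow_mul, hc.b2, one_pow]
      refine ⟨1, ?_, ?_⟩
      · rw [pow_one, hvijl, hbl, mul_one]
        exact T.mul_mem (T.pow_mem hc.xT i) (T.pow_mem hc.yT j)
      · rw [pow_one, hvijl, hbl, mul_one]
        intro h
        have h3 := huniq i j 0 0 0 0 0 0 0 0 (by simpa using h)
        omega
    · have hbl : b ^ l = b := by rw [hm, pow_succ, pow_mul, hc.b2, one_pow, one_mul]
      have hbx : b * x ^ i = x ^ i * b := Commute.pow_right (show Commute b x from hc.bx) i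
      have hby : b * y ^ j = (y ^ j)⁻¹ * b := by
        have h3 : b * y ^ j * b⁻¹ = (y ^ j)⁻¹ := by rw [← conj_pow, hc.by_, inv_pow]
        calc b * y ^ j = (b * y ^ j * b⁻¹) * b := by group
          _ = (y ^ j)⁻¹ * b := by rw [h3]
      have hxy : x ^ i * y ^ j = y ^ j * x ^ i :=
        Commute.pow_pow (show Commute x y from hc.xy) i j
      have hbb : b * b = 1 := by rw [← pow_two]; exact hc.b2
      have h2 : (u₁ * u₂) ^ 2 = x ^ (2 * i) := by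
        rw [hvijl, hbl, pow_two, two_mul, pow_add]
        calc x ^ i * y ^ j * b * (x ^ i * y ^ j * b)
            = x ^ i * y ^ j * (b * x ^ i) * y ^ j * b := by group
          _ = x ^ i * y ^ j * (x ^ i * b) * y ^ j * b := by rw [hbx]
          _ = x ^ i * y ^ j * x ^ i * (b * y ^ j) * b := by group
          _ = x ^ i * y ^ j * x ^ i * ((y ^ j)⁻¹ * b) * b := by rw [hby]
          _ = x ^ i * (y ^ j * x ^ i) * (y ^ j)⁻¹ * (b * b) := by group
          _ = x ^ i * (x ^ i * y ^ j) * (y ^ j)⁻¹ * 1 := by rw [← hxy, hbb]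
          _ = x ^ i * x ^ i := by group
      refine ⟨2, ?_, ?_⟩
      · rw [h2]; exact T.pow_mem hc.xT _
      · rw [h2]; exact hxne _ (by omega)
  -- inversion
  have hinv : ∀ u : G, u * (u₁ * u₂) * u⁻¹ = (u₁ * u₂)⁻¹ → u ∈ N := by
    intro u hu
    apply hTI hc u ((u₁ * u₂) ^ e) heT he1
    rw [← conj_pow, hu, inv_pow]
    exact T.inv_mem heT
  have h11 : u₁ * u₁ = 1 := by rw [← pow_two]; exact hu₁
  have h22 : u₂ * u₂ = 1 := by rw [← pow_two]; exact hu₂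
  have h1 : u₁⁻¹ = u₁ := inv_eq_of_mul_eq_one_right h11
  have h2 : u₂⁻¹ = u₂ := inv_eq_of_mul_eq_one_right h22
  constructor
  · apply hinv
    rw [mul_inv_rev, h1, h2]
    calc u₁ * (u₁ * u₂) * u₁ = (u₁ * u₁) * u₂ * u₁ := by group
      _ = u₂ * u₁ := by rw [h11, one_mul]
  · apply hinv
    rw [mul_inv_rev, h1, h2]
    calc u₂ * (u₁ * u₂) * u₂ = u₂ * u₁ * (u₂ * u₂) := by group
      _ = u₂ * u₁ := by rw [h22, mul_one]

end Cfsg.Agent.Lib.Helper62.D8RED2
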