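import Mathlib
import Cfsg.Agent.Lib.Helper62.Wielandt

/-!
Minimal normal subgroups normalize subnormal subgroups (Isaacs, FGT 2.6).
* `mem_normalizer_of_forall_conj_mem` : in a finite group, `x C x⁻¹ ⊆ C` implies `x ∈ N(C)`.
* `minNormal_le_normalizer` : if `M` is normal and has no proper nontrivial subgroup normal in `G`,
  then `M` normalizes every subnormal subgroup of the finite group `G`.
-/

set_option autoImplicit false

namespace Cfsg.Agent.Lib.Helper62.MinNormal

open Subgroup Cfsg.Agent.Lib.Helper62.Wielandt
open scoped Pointwise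

universe u

/-- if `x c x⁻¹ ∈ C` for all `c ∈ C` then `x` normalizes `C` (finite group) -/
theorem mem_normalizer_of_forall_conj_mem {H : Type*} [Group H] [Finite H] {C : Subgroup H} {x : H}
    (h : ∀ c ∈ C, x * c * x⁻¹ ∈ C) : x ∈ Subgroup.normalizer (C : Set H) := by
  apply (conj_smul_eq_iff x C).mp
  apply smul_eq_of_le
  intro y hy
  obtain ⟨c, hc, rfl⟩ := (Subgroup.mem_smul_pointwise_iff_exists _ _ _).mp hy
  rw [MulAut.smul_def, MulAut.conj_apply]
  exact h c hc

theorem minNormal_aux (n : ℕ) : ∀ (G : Type u) [Group G] [Finite G], Nat.card G ≤ n →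
    ∀ M : Subgroup G, M.Normal → (∀ N : Subgroup G, N.Normal → N ≤ M → N = ⊥ ∨ N = M) →
    ∀ X : Subgroup G, X.IsSubnormal → M ≤ Subgroup.normalizer (X : Set G) := by
  induction n with
  | zero =>
    intro G _ _ h
    have := Nat.card_pos (α := G)
    omega
  | succ n ih =>
    intro G _ _ hcard M hM hmin X hX
    by_cases hXtop : X = ⊤
    · subst hXtop
      intro m _
      rw [Subgroup.mem_normalizer_iff]
      intro h
      simp
    obtain ⟨N, hNn, hXN, hNlt⟩ := hX.exists_normal_and_le_and_lt_top_of_ne hXtop
    have hMN : (M ⊓ N).Normal := Subgroup.normal_inf_normal M N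
    rcases hmin (M ⊓ N) hMN inf_le_left with h | h
    · intro m hm
      apply mem_normalizer_of_forall_conj_mem
      intro c hc
      have hcomm : Commute m c :=
        Subgroup.commute_of_normal_of_disjoint M N hM hNn (disjoint_iff.mpr h) m c hm (hXN hc)
      have h1 : m * c * m⁻¹ = c := by rw [hcomm.eq, mul_inv_cancel_right]
      rw [h1]; exact hc
    · have hMleN : M ≤ N := inf_eq_left.mp h
      by_cases hMbot : M = ⊥
      · rw [hMbot]; exact bot_le
      have hcardN : Nat.card ↥N ≤ n := by
        have := card_lt_of_ne_top hNlt.ne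
        omega
      obtain ⟨M₁, hM₁⟩ := exists_minimal_of_wellFoundedLT
        (fun L : Subgroup ↥N => L.Normal ∧ L ≠ ⊥ ∧ L ≤ M.subgroupOf N)
        ⟨M.subgroupOf N, hM.subgroupOf N, by
          intro hbot
          apply hMbot
          rw [Subgroup.subgroupOf_eq_bot, disjoint_iff, inf_eq_left.mpr hMleN] at hbot
          exact hbot, le_rfl⟩
      have hM₁n : M₁.Normal := hM₁.prop.1
      have hM₁min : ∀ N' : Subgroup ↥N, N'.Normal → N' ≤ M₁ → N' = ⊥ ∨ N' = M₁ := by
        intro N' hN'n hN'le
        by_cases hb : N' = ⊥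
        · exact Or.inl hb
        · exact Or.inr (le_antisymm hN'le
            (hM₁.le_of_le ⟨hN'n, hb, hN'le.trans hM₁.prop.2.2⟩ hN'le))
      have hconj : ∀ g : G, (M₁.map (MulAut.conjNormal g : MulAut ↥N).toMonoidHom)
          ≤ Subgroup.normalizer ((X.subgroupOf N : Subgroup ↥N) : Set ↥N) := by
        intro g
        have hφs : Function.Surjective (MulAut.conjNormal g : MulAut ↥N).toMonoidHom :=
          (MulAut.conjNormal g : MulAut ↥N).surjective
        have hφi : Function.Injective (MulAut.conjNormal g : MulAut ↥N).toMonoidHom :=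
          (MulAut.conjNormal g : MulAut ↥N).injective
        generalize (MulAut.conjNormal g : MulAut ↥N).toMonoidHom = φ at hφs hφi
        refine ih ↥N hcardN (M₁.map φ) (hM₁n.map φ hφs) ?_ _ hX.subgroupOf
        intro N' hN'n hN'le
        have h1 : (N'.comap φ).Normal := hN'n.comap φ
        have h2 : N'.comap φ ≤ M₁ := by
          have := Subgroup.comap_mono (f := φ) hN'le
          rwa [Subgroup.comap_map_eq_self_of_injective hφi] at this
        rcases hM₁min _ h1 h2 with h3 | h3
        · left
          rw [← Subgroup.map_comap_eq_self_of_surjective hφs N', h3, Subgroup.map_bot]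
        · right
          rw [← Subgroup.map_comap_eq_self_of_surjective hφs N', h3]
      have hLM : (⨆ g : G, (M₁.map (MulAut.conjNormal g : MulAut ↥N).toMonoidHom).map N.subtype)
          ≤ M := by
        apply iSup_le
        intro g
        rintro _ ⟨_, ⟨y, hy, rfl⟩, rfl⟩
        have hyM : (y : G) ∈ M := Subgroup.mem_subgroupOf.mp (hM₁.prop.2.2 hy)
        show ((MulAut.conjNormal g y : ↥N) : G) ∈ M
        rw [MulAut.conjNormal_apply]
        exact hM.conj_mem _ hyM g
      have hLn : (⨆ g : G, (M₁.map (MulAut.conjNormal g : MulAut ↥N).toMonoidHom).map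
          N.subtype).Normal := by
        constructor
        intro y hy x
        have hle : (⨆ g : G, (M₁.map (MulAut.conjNormal g : MulAut ↥N).toMonoidHom).map N.subtype)
            ≤ (⨆ g : G, (M₁.map (MulAut.conjNormal g : MulAut ↥N).toMonoidHom).map
              N.subtype).comap (MulAut.conj x).toMonoidHom := by
          apply iSup_le
          intro g
          rintro _ ⟨_, ⟨y, hy, rfl⟩, rfl⟩
          rw [Subgroup.mem_comap]
          have e : (MulAut.conj x).toMonoidHom
              (N.subtype ((MulAut.conjNormal g : MulAut ↥N).toMonoidHom y))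
              = N.subtype ((MulAut.conjNormal (x * g) : MulAut ↥N).toMonoidHom y) := by
            simp [MulAut.conjNormal_apply, MulAut.conj_apply, mul_assoc]
          rw [e]
          exact Subgroup.mem_iSup_of_mem (x * g) ⟨_, ⟨y, hy, rfl⟩, rfl⟩
        have := hle hy
        rw [Subgroup.mem_comap] at this
        simpa [MulAut.conj_apply] using this
      have hLbot : (⨆ g : G, (M₁.map (MulAut.conjNormal g : MulAut ↥N).toMonoidHom).map N.subtype)
          ≠ ⊥ := by
        intro hbot
        apply hM₁.prop.2.1
        rw [Subgroup.eq_bot_iff_forall]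
        intro y hy
        have h1 : N.subtype ((MulAut.conjNormal (1 : G) : MulAut ↥N).toMonoidHom y)
            ∈ (⨆ g : G, (M₁.map (MulAut.conjNormal g : MulAut ↥N).toMonoidHom).map N.subtype) :=
          Subgroup.mem_iSup_of_mem (1 : G) ⟨_, ⟨y, hy, rfl⟩, rfl⟩
        rw [hbot, Subgroup.mem_bot] at h1
        apply Subtype.ext
        simpa [MulAut.conjNormal_apply] using h1
      have hLeq := (hmin _ hLn hLM).resolve_left hLbot
      rw [← hLeq]
      apply iSup_le
      intro g
      rintro _ ⟨z, hz, rfl⟩
      have hzn := hconj g hz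
      apply mem_normalizer_of_forall_conj_mem
      intro c hc
      have h1 := (Subgroup.mem_normalizer_iff.mp hzn ⟨c, hXN hc⟩).mp
        (Subgroup.mem_subgroupOf.mpr hc)
      exact Subgroup.mem_subgroupOf.mp h1

/-- **Isaacs 2.6**: a minimal normal subgroup of a finite group normalizes every subnormal
subgroup.  (`M` need not be nontrivial.) -/
theorem minNormal_le_normalizer {G : Type u} [Group G] [Finite G] {M : Subgroup G} (hM : M.Normal)
    (hmin : ∀ N : Subgroup G, N.Normal → N ≤ M → N = ⊥ ∨ N = M) {X : Subgroup G}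
    (hX : X.IsSubnormal) : M ≤ Subgroup.normalizer (X : Set G) :=
  minNormal_aux (Nat.card G) G le_rfl M hM hmin X hX

end Cfsg.Agent.Lib.Helper62.MinNormal
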