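import Mathlib
import Cfsg.Agent.Lib.Helper85.PPStmt

set_option autoImplicit false
set_option linter.style.haveILetI false

/-! Piece FOC of S5113: a fusion-invariant homomorphism from a Sylow `p`-subgroup to an abelian
group kills the intersection with `O^p(G)` (transfer argument). -/

namespace Cfsg.Agent.Lib.Helper62.PPFOC

open Cfsg Cfsg.FusionSystem Cfsg.Agent.Lib.Helper85.PPStmt

universe u v

open Subgroup MulAction in
/-- transfer of a fusion-invariant homomorphism is the `index`-th power on `H`. -/
theorem transfer_eq_pow_of_fusion {G : Type u} [Group G] {A : Type v} [CommGroup A]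
    (H : Subgroup G) [H.FiniteIndex] (f : H →* A)
    (hf : ∀ (x y : H) (g : G), (y : G) = g * x * g⁻¹ → f x = f y) (x : H) :
    MonoidHom.transfer f (x : G) = f x ^ H.index := by
  classical
  letI := H.fintypeQuotientOfFiniteIndex
  rw [MonoidHom.transfer_eq_prod_quotient_orbitRel_zpowers_quot]
  have key : ∀ q : Quotient (orbitRel (zpowers (x : G)) (G ⧸ H)),
      f ⟨q.out.out⁻¹ * (x : G) ^ Function.minimalPeriod ((x : G) • ·) q.out * q.out.out,
            QuotientGroup.out_conj_pow_minimalPeriod_mem H (x : G) q.out⟩ =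
        f x ^ Function.minimalPeriod ((x : G) • ·) q.out := by
    intro q
    rw [← map_pow]
    symm
    apply hf _ _ (q.out.out⁻¹)
    simp
  rw [Finset.prod_congr rfl (fun q _ => key q), Finset.prod_pow_eq_pow_sum]
  congr 1
  rw [index_eq_card, Nat.card_eq_fintype_card,
    Fintype.card_congr (selfEquivSigmaOrbits (zpowers (x : G)) (G ⧸ H)), Fintype.card_sigma]
  refine Finset.sum_congr rfl (fun q _ => ?_)
  rw [minimalPeriod_eq_card]
  exact Fintype.card_congr (Equiv.refl _)

theorem main : FocalKer.{u, v} := by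
  intro G _ _ p _ R A _ hcomm f hf x hx
  letI : CommGroup A := { ‹Group A› with mul_comm := hcomm }
  haveI : (R : Subgroup G).FiniteIndex := inferInstance
  have hrange : ∀ g : G, MonoidHom.transfer f g ∈ f.range := by
    intro g
    classical
    letI := (R : Subgroup G).fintypeQuotientOfFiniteIndex
    rw [MonoidHom.transfer_eq_prod_quotient_orbitRel_zpowers_quot]
    exact Subgroup.prod_mem _ (fun q _ => ⟨_, rfl⟩)
  have hfpow : ∀ r : (R : Subgroup G), f r ^ Nat.card (R : Subgroup G) = 1 := by
    intro r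
    rw [← map_pow, pow_card_eq_one', map_one]
  obtain ⟨k, hk⟩ := IsPGroup.iff_card.mp R.isPGroup'
  have hker : pResidual p G ≤ (MonoidHom.transfer f).ker := by
    rw [pResidual, Subgroup.closure_le]
    intro g hg
    have hg' : Nat.Coprime (orderOf g) p := hg
    rw [SetLike.mem_coe, MonoidHom.mem_ker]
    obtain ⟨r, hr⟩ := hrange g
    have h1 : MonoidHom.transfer f g ^ orderOf g = 1 := by
      rw [← map_pow, pow_orderOf_eq_one, map_one]
    have h2 : MonoidHom.transfer f g ^ (p ^ k) = 1 := by
      rw [← hr, ← hk]; exact hfpow r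
    have h3 := orderOf_dvd_of_pow_eq_one h1
    have h4 := orderOf_dvd_of_pow_eq_one h2
    have h5 : orderOf (MonoidHom.transfer f g) ∣ 1 := by
      have hc : Nat.Coprime (orderOf g) (p ^ k) := Nat.Coprime.pow_right k hg'
      have := Nat.dvd_gcd h3 h4
      rwa [hc.gcd_eq_one] at this
    exact orderOf_eq_one_iff.mp (Nat.dvd_one.mp h5)
  have h1 : f x ^ (R : Subgroup G).index = 1 := by
    rw [← transfer_eq_pow_of_fusion (R : Subgroup G) f hf x]
    exact MonoidHom.mem_ker.mp (hker hx)
  have h2 : f x ^ (p ^ k) = 1 := by rw [← hk]; exact hfpow x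
  have h3 := orderOf_dvd_of_pow_eq_one h1
  have h4 := orderOf_dvd_of_pow_eq_one h2
  have hc : Nat.Coprime (R : Subgroup G).index (p ^ k) := by
    apply Nat.Coprime.pow_right
    exact ((Nat.Prime.coprime_iff_not_dvd (Fact.out : p.Prime)).mpr R.not_dvd_index).symm
  have h5 : orderOf (f x) ∣ 1 := by
    have := Nat.dvd_gcd h3 h4
    rwa [hc.gcd_eq_one] at this
  exact orderOf_eq_one_iff.mp (Nat.dvd_one.mp h5)

end Cfsg.Agent.Lib.Helper62.PPFOC
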