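import Mathlib
import Cfsg.Agent.Lib.Helper85.PPStmt
import Cfsg.Agent.Lib.Helper87.FSBasic
import Cfsg.Agent.Lib.Helper87.FSSat
import Cfsg.Agent.S5077

set_option autoImplicit false
set_option linter.style.haveILetI false

/-! Piece LOC of S5113: if `c_u|Q` lies in `O^p(Aut_F(Q))` (`Q` fully normalized, `C_S(Q) ≤ T`)
then `δ u = 1`. -/

namespace Cfsg.Agent.Lib.Helper62.PPLOC

open Cfsg Cfsg.FusionSystem Cfsg.Agent.Lib.Helper85.PPStmt Cfsg.Agent.Lib.Helper87.FSBasic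

universe u v

section
variable {Ω : Type u} [Group Ω] {S : Subgroup Ω} {A : Type v} [Group A]

/-- `α` is induced on `Q` by conjugation with `r`. -/
def Ind (Q : Subgroup Ω) (α : MulAut Q) (r : S) : Prop :=
  ∀ x : Q, ((α x : Q) : Ω) = (r : Ω) * (x : Ω) * (r : Ω)⁻¹

theorem ind_wd {Q T : Subgroup Ω} (δ : S →* A) (hker : ∀ s : S, δ s = 1 ↔ (s : Ω) ∈ T)
    (hC : centralizerIn S Q ≤ T) {α : MulAut Q} {r r' : S} (h : Ind Q α r) (h' : Ind Q α r') :
    δ r = δ r' := by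
  have h1 : ((r⁻¹ * r' : S) : Ω) ∈ centralizerIn S Q := by
    refine ⟨(r⁻¹ * r').2, ?_⟩
    show _ ∈ Subgroup.centralizer (Q : Set Ω)
    rw [Subgroup.mem_centralizer_iff]
    intro x hx
    have e := (h ⟨x, hx⟩).symm.trans (h' ⟨x, hx⟩)
    simp only [Subgroup.coe_mul, Subgroup.coe_inv]
    have e' : (x : Ω) = (r : Ω)⁻¹ * ((r' : Ω) * x * (r' : Ω)⁻¹) * (r : Ω) := by
      rw [← e]; group
    calc x * ((r : Ω)⁻¹ * (r' : Ω))
        = ((r : Ω)⁻¹ * ((r' : Ω) * x * (r' : Ω)⁻¹) * (r : Ω)) * ((r : Ω)⁻¹ * (r' : Ω)) := by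
          rw [← e']
      _ = (r : Ω)⁻¹ * (r' : Ω) * x := by group
  have h2 := (hker (r⁻¹ * r')).mpr (hC h1)
  rw [map_mul, map_inv, inv_mul_eq_one] at h2
  exact h2

end

theorem main (hFK : FocalKer.{u, v}) (hDI : DegInv.{u, v}) : LocalKer.{u, v} := by
  intro Ω _ S _ p _ hS F hsat A _ δ T hDD Q hQfn hC u n hn hnu
  have hQS : Q ≤ S := hQfn.1
  have h77 := (Cfsg.Agent.S5077.result p hS F).mp hsat
  obtain ⟨hQfc, hQfa⟩ := h77.1 Q hQfn
  have hQrec := h77.2 Q hQfc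
  obtain ⟨-, R, hR⟩ := hQfa
  haveI : Finite Q := Cfsg.Agent.Lib.Helper87.FSSat.finite_of_le hQS
  haveI : Finite (F.autGroup Q) := inferInstance
  -- existence of inducing element
  have hex : ∀ α : (R : Subgroup (F.autGroup Q)),
      ∃ r : S, Ind Q ((α : F.autGroup Q) : MulAut Q) r := by
    intro α
    have h1 : (α : F.autGroup Q) ∈ (autInducedBy S Q).subgroupOf (F.autGroup Q) := by
      rw [← hR]; exact α.2
    rw [Subgroup.mem_subgroupOf] at h1
    obtain ⟨g, hg, h⟩ := (mem_autInducedBy_iff _).1 h1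
    exact ⟨⟨g, hg⟩, h⟩
  have hwd : ∀ {α : MulAut Q} {r r' : S}, Ind Q α r → Ind Q α r' → δ r = δ r' :=
    fun h h' => ind_wd δ hDD.ker hC h h'
  let f : (R : Subgroup (F.autGroup Q)) →* A := MonoidHom.mk' (fun α => δ (hex α).choose) (by
    intro α β
    have ha := (hex α).choose_spec
    have hb := (hex β).choose_spec
    have hab := (hex (α * β)).choose_spec
    rw [← map_mul]
    apply hwd hab
    intro x
    show (((α : F.autGroup Q) : MulAut Q) (((β : F.autGroup Q) : MulAut Q) x) : Ω) = _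
    rw [ha, hb]
    simp only [Subgroup.coe_mul]; group)
  have hf : ∀ (α : (R : Subgroup (F.autGroup Q))) (r : S),
      Ind Q ((α : F.autGroup Q) : MulAut Q) r → f α = δ r := by
    intro α r h
    exact hwd (hex α).choose_spec h
  -- fusion invariance
  have hfus : ∀ (x y : (R : Subgroup (F.autGroup Q))) (g : F.autGroup Q),
      (y : F.autGroup Q) = g * x * g⁻¹ → f x = f y := by
    intro x y g hxy
    obtain ⟨a, ha⟩ := hex x
    obtain ⟨b, hb⟩ := hex y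
    rw [hf x a ha, hf y b hb]
    have hφ : Q.subtype.comp (g : MulAut Q).toMonoidHom ∈ F.Hom Q := autGroup_hom F hQS g.2
    have hrange : (Q.subtype.comp (g : MulAut Q).toMonoidHom).range = Q := range_autHom _
    obtain ⟨ψ, hψ, hψφ⟩ := hQrec.2 Q _ hφ hrange
    have hrel : ∀ z : Q, (((g : MulAut Q) (((x : F.autGroup Q) : MulAut Q) z) : Q) : Ω) =
        (b : Ω) * (((g : MulAut Q) z : Q) : Ω) * (b : Ω)⁻¹ := by
      intro z
      have h1 : ((y : F.autGroup Q) : MulAut Q) * (g : MulAut Q) =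
          (g : MulAut Q) * ((x : F.autGroup Q) : MulAut Q) := by
        rw [hxy]; simp
      have h2 := congrArg (fun m : MulAut Q => ((m z : Q) : Ω)) h1
      simp only [MulAut.mul_apply] at h2
      rw [← h2, hb]
    have ha_ext : (a : Ω) ∈ extender S Q (Q.subtype.comp (g : MulAut Q).toMonoidHom) := by
      apply Subgroup.subset_closure
      refine ⟨a.2, mem_normalizer_of_induces ha, (b : Ω), b.2, ?_⟩
      intro z hz
      have e : (⟨(a : Ω) * z * (a : Ω)⁻¹, hz⟩ : Q) = ((x : F.autGroup Q) : MulAut Q) z :=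
        Subtype.ext (ha z).symm
      rw [e]
      exact hrel z
    have hQ_ext : Q ≤ extender S Q (Q.subtype.comp (g : MulAut Q).toMonoidHom) := by
      intro z hz
      apply Subgroup.subset_closure
      refine ⟨hQS hz, Subgroup.le_normalizer hz,
        (Q.subtype.comp (g : MulAut Q).toMonoidHom) ⟨z, hz⟩, (F.le_of_mem hφ).2 _, ?_⟩
      intro w hw
      have : (⟨z * w * z⁻¹, hw⟩ : Q) = ⟨z, hz⟩ * w * ⟨z, hz⟩⁻¹ := rfl
      rw [this, map_mul, map_mul, map_inv]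
    have hψa : ψ ⟨a, ha_ext⟩ ∈ S := (F.le_of_mem hψ).2 _
    have hdeg := hDI Ω S p hS F hsat A δ T hDD _ ψ hψ ⟨a, ha_ext⟩
    have hsame : ∀ w : Q, ψ ⟨a, ha_ext⟩ * (w : Ω) * (ψ ⟨a, ha_ext⟩)⁻¹ =
        (b : Ω) * w * (b : Ω)⁻¹ := by
      intro w
      obtain ⟨z, rfl⟩ := (g : MulAut Q).surjective w
      have hz_ext : (z : Ω) ∈ extender S Q (Q.subtype.comp (g : MulAut Q).toMonoidHom) :=
        hQ_ext z.2
      have haz : (a : Ω) * z * (a : Ω)⁻¹ ∈ Q := by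
        rw [← ha z]; exact Subtype.property _
      have haz_ext := hQ_ext haz
      have e1 : ψ ⟨(a : Ω) * z * (a : Ω)⁻¹, haz_ext⟩ =
          ψ ⟨a, ha_ext⟩ * ψ ⟨z, hz_ext⟩ * (ψ ⟨a, ha_ext⟩)⁻¹ := by
        rw [← map_inv, ← map_mul, ← map_mul]; rfl
      have e2 := hψφ _ haz haz_ext
      have e3 := hψφ _ z.2 hz_ext
      rw [e2, e3] at e1
      have e5 : (Q.subtype.comp (g : MulAut Q).toMonoidHom) ⟨(a : Ω) * z * (a : Ω)⁻¹, haz⟩ =
          (b : Ω) * (((g : MulAut Q) z : Q) : Ω) * (b : Ω)⁻¹ := by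
        have e : (⟨(a : Ω) * z * (a : Ω)⁻¹, haz⟩ : Q) = ((x : F.autGroup Q) : MulAut Q) z :=
          Subtype.ext (ha z).symm
        rw [e]; exact hrel z
      rw [e5] at e1
      exact e1.symm
    have hcen : ((b⁻¹ * ⟨ψ ⟨a, ha_ext⟩, hψa⟩ : S) : Ω) ∈ centralizerIn S Q := by
      refine ⟨(b⁻¹ * ⟨ψ ⟨a, ha_ext⟩, hψa⟩ : S).2, ?_⟩
      show _ ∈ Subgroup.centralizer (Q : Set Ω)
      rw [Subgroup.mem_centralizer_iff]
      intro w hw
      have hs := hsame ⟨w, hw⟩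
      simp only [Subgroup.coe_mul, Subgroup.coe_inv]
      have e : ψ ⟨a, ha_ext⟩ * w = (b : Ω) * w * (b : Ω)⁻¹ * ψ ⟨a, ha_ext⟩ := by
        rw [← hs]; group
      calc w * ((b : Ω)⁻¹ * ψ ⟨a, ha_ext⟩)
          = (b : Ω)⁻¹ * ((b : Ω) * w * (b : Ω)⁻¹ * ψ ⟨a, ha_ext⟩) := by group
        _ = (b : Ω)⁻¹ * ψ ⟨a, ha_ext⟩ * w := by rw [← e]; group
    have h2 := (hDD.ker _).mpr (hC hcen)
    rw [map_mul, map_inv, inv_mul_eq_one] at h2
    rw [h2]
    exact hdeg.symm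
  -- `n` lies in `R`
  have hnR : n ∈ (R : Subgroup (F.autGroup Q)) := by
    rw [hR, Subgroup.mem_subgroupOf]
    exact (mem_autInducedBy_iff _).2 ⟨u, u.2, hnu⟩
  have key := hFK (F.autGroup Q) p R A hDD.comm f hfus ⟨n, hnR⟩ hn
  rw [hf ⟨n, hnR⟩ u hnu] at key
  exact key

end Cfsg.Agent.Lib.Helper62.PPLOC
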