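import Mathlib
import Cfsg.Agent.Lib.Helper1.PiClasses
import Cfsg.Agent.Lib.Helper30.PiHall
import Cfsg.Agent.Lib.Helper30.PiHallA
import Cfsg.Agent.Lib.Helper62.CopAct
import Cfsg.Agent.S3897

set_option autoImplicit false

/-!
# Two primes: an abelian Sylow `r`-subgroup with a normal complement and many `{p, r}`-classes

`two_prime`: let `p < r`, `R` an abelian Sylow `r`-subgroup of `G`, `K` a normal subgroup of order
prime to `r` and index prime to `p`.  If `G` has more than `|G|_p |R| / p` classes of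
`{p, r}`-elements, then `R` centralizes a Sylow `p`-subgroup of `G`.
-/

namespace Cfsg.Agent.Lib.Helper62.TwoPrime

open Cfsg.Agent.Lib.Helper1.PiClasses
open Cfsg.Agent.Lib.Helper30.PiHall
open Cfsg.Agent.Lib.Helper62.CopAct

universe u

theorem tp_arith {p r a n h0 w k : ℕ} (hp : 2 ≤ p) (hpr : p + 1 ≤ r) (_ha : 0 < a)
    (hn : h0 + w = n) (hr : r * h0 ≤ n)
    (hk : 2 * p ^ 2 * k ≤ a * (h0 * (p * (p + 1)) + 2 * w)) (hmany : a * n < p * k) : False := by
  have h1 : (p + 1) * h0 ≤ h0 + w := by
    rw [hn]; exact (Nat.mul_le_mul_right _ hpr).trans hr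
  have h2 : p * h0 ≤ w := by nlinarith
  obtain ⟨e, rfl⟩ : ∃ e, p = e + 1 := ⟨p - 1, by omega⟩
  have h3 : a * (2 * (e + 1) * n) < a * (h0 * ((e + 1) * (e + 1 + 1)) + 2 * w) := by
    calc a * (2 * (e + 1) * n) = 2 * (e + 1) * (a * n) := by ring
      _ < 2 * (e + 1) * ((e + 1) * k) := Nat.mul_lt_mul_of_pos_left hmany (by positivity)
      _ = 2 * (e + 1) ^ 2 * k := by ring
      _ ≤ _ := hk
  have h4 := Nat.lt_of_mul_lt_mul_left h3
  rw [← hn] at h4
  have h5 : e * ((e + 1) * h0) ≤ e * w := Nat.mul_le_mul_left _ h2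
  nlinarith

variable {G : Type u} [Group G]

theorem kpi_singleton_eq [Finite G] {p : ℕ} (hp : p.Prime) :
    kpi ({p} : Set ℕ) G
      = Nat.card {c : ConjClasses G // ∀ x ∈ c.carrier, ∃ k : ℕ, orderOf x = p ^ k} := by
  unfold kpi PiCls
  apply Nat.card_congr
  apply Equiv.subtypeEquivRight
  intro c
  constructor
  · intro h x hx; exact (isPiElt_singleton_iff hp).mp (h x hx)
  · intro h x hx; exact (isPiElt_singleton_iff hp).mpr (h x hx)

/-- a group with a Sylow `p`-subgroup whose normalizer is not its centralizer has few classes of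
`p`-elements -/
theorem kpi_count [Finite G] {p : ℕ} (hp : p.Prime) (P : Subgroup G)
    (hPc : Nat.card P = p ^ (Nat.card G).factorization p) {y u : G}
    (hy : ∀ t ∈ P, y * t * y⁻¹ ∈ P) (hu : u ∈ P) (hne : u * y ≠ y * u) :
    2 * p * kpi ({p} : Set ℕ) G ≤ (p + 1) * p ^ (Nat.card G).factorization p := by
  have : Fact p.Prime := ⟨hp⟩
  let S : Sylow p G := Sylow.ofCard P hPc
  have hSP : (S : Subgroup G) = P := rfl
  have hne' : ¬ Subgroup.normalizer ((S : Subgroup G) : Set G)
      ≤ Subgroup.centralizer ((S : Subgroup G) : Set G) := by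
    intro hle
    have hyN : y ∈ Subgroup.normalizer ((S : Subgroup G) : Set G) := by
      rw [hSP]; exact Subgroup.mem_normalizer_fintype hy
    have h2 := Subgroup.mem_centralizer_iff.mp (hle hyN) u (by rw [hSP]; exact hu)
    exact hne h2
  have h1 := Cfsg.Agent.S3897.card_cls_le S
  have h2 := Cfsg.Agent.S3897.count S hne'
  rw [kpi_singleton_eq hp, ← hPc, ← hSP]
  exact (Nat.mul_le_mul_left _ h1).trans h2

theorem two_prime [Finite G] {p r : ℕ} (hp : p.Prime) (hr : r.Prime) (hpr : p < r)
    (R : Subgroup G) (hRc : Nat.card R = r ^ (Nat.card G).factorization r)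
    (hRab : ∀ x ∈ R, ∀ y ∈ R, x * y = y * x)
    (K : Subgroup G) [K.Normal] (hK : ¬ r ∣ Nat.card K) (hKi : ¬ p ∣ K.index)
    (hmany : p ^ (Nat.card G).factorization p * Nat.card R
      < p * kpi (insert p ({r} : Set ℕ)) G) :
    ∃ P : Subgroup G, Nat.card P = p ^ (Nat.card G).factorization p ∧
      ∀ u ∈ P, ∀ y ∈ R, u * y = y * u := by
  classical
  have hFp : Fact p.Prime := ⟨hp⟩
  have hFr : Fact r.Prime := ⟨hr⟩
  have hRp : IsPGroup r R := IsPGroup.of_card hRc
  by_contra hno
  push Not at hno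
  obtain ⟨P, -, hPc, hPinv⟩ := exists_invariant_sylow hp hr ⊤ K hK hKi R le_top hRp
  rw [Subgroup.card_top] at hPc
  obtain ⟨u0, hu0, y0, hy0, hne0⟩ := hno P hPc
  have hPK : P ≤ K := le_of_not_dvd_index hp K hKi (IsPGroup.of_card hPc)
  have hRX : ∀ x ∈ R, R ≤ Subgroup.centralizer ({x} : Set G) := by
    intro x hx y hy
    rw [Subgroup.mem_centralizer_iff]
    intro z hz
    rw [Set.mem_singleton_iff] at hz
    rw [hz]
    exact hRab x hx y hy
  have hzp : ∀ x ∈ R, IsPGroup r (Subgroup.zpowers x) := fun x hx =>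
    hRp.to_le (by rw [Subgroup.zpowers_le]; exact hx)
  -- elements with full `p`-part of the centralizer centralize `P`
  have hβ : ∀ x ∈ R, (Nat.card (Subgroup.centralizer ({x} : Set G))).factorization p
      = (Nat.card G).factorization p → x ∈ Subgroup.centralizer (P : Set G) := by
    intro x hx hv
    obtain ⟨T, hTX, hTc, hTinv⟩ := exists_invariant_sylow hp hr
      (Subgroup.centralizer ({x} : Set G)) K hK hKi R (hRX x hx) hRp
    rw [hv] at hTc
    have hTK : T ≤ K := le_of_not_dvd_index hp K hKi (IsPGroup.of_card hTc)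
    have hxR : Subgroup.zpowers x ≤ R := by rw [Subgroup.zpowers_le]; exact hx
    obtain ⟨c, hcK, hcB, hcT⟩ := conj_invariant_sylow hp hr K hK (Subgroup.zpowers x)
      (hzp x hx) T P hTK hPK hTc hPc (fun b hb t ht => hTinv b (hxR hb) t ht)
      (fun b hb u hu => hPinv b (hxR hb) u hu)
    have hback := conj_back hcT (by rw [hTc, hPc])
    rw [Subgroup.mem_centralizer_iff]
    intro u hu
    have h1 := hback u hu
    have h2 : x * (c⁻¹ * u * c) = c⁻¹ * u * c * x :=
      Subgroup.mem_centralizer_iff.mp (hTX h1) x (Set.mem_singleton x)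
    have hxc : x * c = c * x := hcB x (Subgroup.mem_zpowers x)
    have hxc' : x * c⁻¹ = c⁻¹ * x := by
      calc x * c⁻¹ = c⁻¹ * (c * x) * c⁻¹ := by group
        _ = c⁻¹ * (x * c) * c⁻¹ := by rw [hxc]
        _ = c⁻¹ * x := by group
    calc u * x = c * (c⁻¹ * u * c) * (c⁻¹ * x) := by group
      _ = c * (c⁻¹ * u * c) * (x * c⁻¹) := by rw [hxc']
      _ = c * ((c⁻¹ * u * c) * x) * c⁻¹ := by group
      _ = c * (x * (c⁻¹ * u * c)) * c⁻¹ := by rw [h2]
      _ = (c * x) * (c⁻¹ * u * c) * c⁻¹ := by group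
      _ = (x * c) * (c⁻¹ * u * c) * c⁻¹ := by rw [hxc]
      _ = x * u := by group
  -- elements centralizing `P` have few classes of `p`-elements in their centralizer
  have hγ : ∀ x ∈ R, x ∈ Subgroup.centralizer (P : Set G) →
      2 * p * kpi ({p} : Set ℕ) (Subgroup.centralizer ({x} : Set G))
        ≤ (p + 1) * p ^ (Nat.card G).factorization p := by
    intro x hx hxP
    have hPC : P ≤ Subgroup.centralizer ({x} : Set G) := by
      intro u hu
      rw [Subgroup.mem_centralizer_iff]
      intro z hz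
      rw [Set.mem_singleton_iff] at hz
      rw [hz]
      exact (Subgroup.mem_centralizer_iff.mp hxP u hu).symm
    have hvC : (Nat.card (Subgroup.centralizer ({x} : Set G))).factorization p
        = (Nat.card G).factorization p := by
      have := fact_eq hp hPC (le_top : Subgroup.centralizer ({x} : Set G) ≤ ⊤)
        (by rw [Subgroup.card_top]; exact hPc)
      rwa [Subgroup.card_top] at this
    have hP'c : Nat.card (P.subgroupOf (Subgroup.centralizer ({x} : Set G)))
        = p ^ (Nat.card (Subgroup.centralizer ({x} : Set G))).factorization p := by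
      rw [hvC, ← hPc]
      exact Nat.card_congr (Subgroup.subgroupOfEquivOfLe hPC).toEquiv
    have hy0C : y0 ∈ Subgroup.centralizer ({x} : Set G) := hRX x hx hy0
    have h1 := kpi_count hp (P.subgroupOf (Subgroup.centralizer ({x} : Set G))) hP'c
      (y := ⟨y0, hy0C⟩) (u := ⟨u0, hPC hu0⟩)
      (fun t ht => Subgroup.mem_subgroupOf.mpr (by
        have := hPinv y0 hy0 _ (Subgroup.mem_subgroupOf.mp ht)
        simpa using this))
      (Subgroup.mem_subgroupOf.mpr hu0)
      (fun h => hne0 (congrArg Subtype.val h))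
    rw [hvC] at h1
    exact h1
  -- the other elements have a small `p`-part in their centralizer
  have hα : ∀ x ∈ R, x ∉ Subgroup.centralizer (P : Set G) →
      p ^ 2 * kpi ({p} : Set ℕ) (Subgroup.centralizer ({x} : Set G))
        ≤ p ^ (Nat.card G).factorization p := by
    intro x hx hxP
    have hle : (Nat.card (Subgroup.centralizer ({x} : Set G))).factorization p
        ≤ (Nat.card G).factorization p :=
      (Nat.factorization_le_iff_dvd Nat.card_pos.ne' Nat.card_pos.ne').mpr
        (Subgroup.card_subgroup_dvd_card _) p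
    have hlt := lt_of_le_of_ne hle (fun h => hxP (hβ x hx h))
    have hjump := val_centralizer_jump hp hr hpr K hK hKi x (hzp x hx) hlt
    calc p ^ 2 * kpi ({p} : Set ℕ) (Subgroup.centralizer ({x} : Set G))
        ≤ p ^ 2 * p ^ (Nat.card (Subgroup.centralizer ({x} : Set G))).factorization p :=
          Nat.mul_le_mul_left _ (kpi_prime_le hp)
      _ = p ^ ((Nat.card (Subgroup.centralizer ({x} : Set G))).factorization p + 2) := by ring
      _ ≤ p ^ (Nat.card G).factorization p := Nat.pow_le_pow_right hp.pos hjump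
  -- the count
  have : Fintype G := Fintype.ofFinite G
  let _ : Fintype (PiCls ({r} : Set ℕ) G) := Fintype.ofFinite _
  have hex : ∀ c : PiCls ({r} : Set ℕ) G, ∃ x : G, x ∈ R ∧
      ∃ hx : IsPiElt ({r} : Set ℕ) x, mkPi x hx = c := by
    intro c
    obtain ⟨x, hx, hxc⟩ := exists_mem_sylow (Sylow.ofCard R hRc) c
    exact ⟨x, x.2, hx, hxc⟩
  choose rep hrepR hrep using hex
  have h1 := kpi_le_sum_Tset ({r} : Set ℕ) hp rep hrep
  have hinj : Function.Injective rep := by
    intro c c' h
    obtain ⟨h1, e1⟩ := hrep c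
    obtain ⟨h2, e2⟩ := hrep c'
    rw [← e1, ← e2, mkPi_eq_iff]
    exact ⟨1, by simpa using h⟩
  have h2 : ∑ c, (Tset ({p} : Set ℕ) (rep c)).ncard
      ≤ ∑ x ∈ elts R, kpi ({p} : Set ℕ) (Subgroup.centralizer ({x} : Set G)) := by
    calc ∑ c, (Tset ({p} : Set ℕ) (rep c)).ncard
        ≤ ∑ c, kpi ({p} : Set ℕ) (Subgroup.centralizer ({rep c} : Set G)) :=
          Finset.sum_le_sum (fun c _ => ncard_Tset_le _ _)
      _ = ∑ x ∈ Finset.univ.image rep, kpi ({p} : Set ℕ) (Subgroup.centralizer ({x} : Set G)) :=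
          (Finset.sum_image (f := fun x : G =>
            kpi ({p} : Set ℕ) (Subgroup.centralizer ({x} : Set G)))
            (fun a _ b _ h => hinj h)).symm
      _ ≤ ∑ x ∈ elts R, kpi ({p} : Set ℕ) (Subgroup.centralizer ({x} : Set G)) := by
          apply Finset.sum_le_sum_of_subset
          intro x hx
          obtain ⟨c, -, rfl⟩ := Finset.mem_image.mp hx
          exact mem_elts.mpr (hrepR c)
  have h3 : 2 * p ^ 2 * ∑ x ∈ elts R, kpi ({p} : Set ℕ) (Subgroup.centralizer ({x} : Set G))
      ≤ ∑ x ∈ elts R, (if x ∈ Subgroup.centralizer (P : Set G)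
          then p * (p + 1) * p ^ (Nat.card G).factorization p
          else 2 * p ^ (Nat.card G).factorization p) := by
    rw [Finset.mul_sum]
    apply Finset.sum_le_sum
    intro x hx
    have hxR := mem_elts.mp hx
    split_ifs with hxP
    · have := hγ x hxR hxP
      calc 2 * p ^ 2 * kpi ({p} : Set ℕ) (Subgroup.centralizer ({x} : Set G))
          = p * (2 * p * kpi ({p} : Set ℕ) (Subgroup.centralizer ({x} : Set G))) := by ring
        _ ≤ p * ((p + 1) * p ^ (Nat.card G).factorization p) := Nat.mul_le_mul_left _ this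
        _ = p * (p + 1) * p ^ (Nat.card G).factorization p := by ring
    · have := hα x hxR hxP
      calc 2 * p ^ 2 * kpi ({p} : Set ℕ) (Subgroup.centralizer ({x} : Set G))
          = 2 * (p ^ 2 * kpi ({p} : Set ℕ) (Subgroup.centralizer ({x} : Set G))) := by ring
        _ ≤ 2 * p ^ (Nat.card G).factorization p := Nat.mul_le_mul_left _ this
  rw [Finset.sum_ite, Finset.sum_const, Finset.sum_const, smul_eq_mul, smul_eq_mul] at h3
  have hc0 : ((elts R).filter (fun z => z ∈ Subgroup.centralizer (P : Set G))).card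
      = Nat.card (R ⊓ Subgroup.centralizer (P : Set G) : Subgroup G) :=
    (Nat.subtype_card _ (fun x => by
      simp only [Finset.mem_filter, mem_elts, Subgroup.mem_inf])).symm
  have hzw : ((elts R).filter (fun z => z ∈ Subgroup.centralizer (P : Set G))).card
      + ((elts R).filter (fun z => ¬ z ∈ Subgroup.centralizer (P : Set G))).card
      = Nat.card R := by
    rw [Finset.card_filter_add_card_filter_not, card_elts]
  rw [hc0] at hzw h3
  have hR0 : r * Nat.card (R ⊓ Subgroup.centralizer (P : Set G) : Subgroup G) ≤ Nat.card R := by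
    apply card_idx_le inf_le_left
    · intro hEq
      have : y0 ∈ R ⊓ Subgroup.centralizer (P : Set G) := by rw [hEq]; exact hy0
      exact hne0 (Subgroup.mem_centralizer_iff.mp (Subgroup.mem_inf.mp this).2 u0 hu0)
    · intro l hl hld
      rw [hRc] at hld
      exact Nat.le_of_eq ((Nat.prime_dvd_prime_iff_eq hl hr).mp (hl.dvd_of_dvd_pow hld)).symm
  have hk : 2 * p ^ 2 * kpi (insert p ({r} : Set ℕ)) G
      ≤ p ^ (Nat.card G).factorization p
        * (Nat.card (R ⊓ Subgroup.centralizer (P : Set G) : Subgroup G) * (p * (p + 1))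
          + 2 * ((elts R).filter (fun z => ¬ z ∈ Subgroup.centralizer (P : Set G))).card) := by
    calc 2 * p ^ 2 * kpi (insert p ({r} : Set ℕ)) G
        ≤ 2 * p ^ 2 * ∑ x ∈ elts R, kpi ({p} : Set ℕ) (Subgroup.centralizer ({x} : Set G)) :=
          Nat.mul_le_mul_left _ (h1.trans h2)
      _ ≤ _ := h3
      _ = _ := by ring
  exact tp_arith hp.two_le hpr (pow_pos hp.pos _) hzw hR0 hk hmany

end Cfsg.Agent.Lib.Helper62.TwoPrime
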