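import Mathlib
import Cfsg.Agent.Lib.Helper1.PiClasses
import Cfsg.Agent.Lib.Helper30.PiHall
import Cfsg.Agent.Lib.Helper30.PiHallA
import Cfsg.Agent.Lib.Helper30.PiHallC
import Cfsg.Agent.Lib.Helper30.PiHallMain
import Cfsg.Agent.Lib.Helper62.CopAct
import Cfsg.Agent.Lib.Helper62.TwoPrime
import Cfsg.Agent.S3897

set_option autoImplicit false

/-!
# Many π-classes force a nilpotent Hall π-subgroup

Let `p` be the least prime of `τ`, and let `R` be a commuting family of abelian Sylow subgroups
for the primes of `τ` other than `p`.  If `G` has more than `|G|_τ / p` classes of τ-elements,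
then some Sylow `p`-subgroup of `G` centralizes the family (`exists_cent`).
-/

namespace Cfsg.Agent.Lib.Helper62.PiStar

open Cfsg.Agent.Lib.Helper1.PiClasses
open Cfsg.Agent.Lib.Helper30.PiHall
open Cfsg.Agent.Lib.Helper62.CopAct
open Cfsg.Agent.Lib.Helper62.TwoPrime

universe u

variable {G : Type u} [Group G]

/-- removing primes from the set -/
theorem kpi_union_le [Finite G] (β : Set ℕ) (ρ : Finset ℕ) (hρ : ∀ t ∈ ρ, t.Prime) :
    kpi (β ∪ ↑ρ) G ≤ kpi β G * piPart ρ (Nat.card G) := by
  induction ρ using Finset.induction_on with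
  | empty => simp [piPart]
  | insert t ρ ht ih =>
    have htp := hρ t (Finset.mem_insert_self t ρ)
    have h1 := kpi_insert_le' (G := G) (β ∪ ↑ρ) htp
    have h2 : β ∪ ↑(insert t ρ) = insert t (β ∪ ↑ρ) := by
      rw [Finset.coe_insert, Set.union_insert]
    rw [h2]
    refine h1.trans ?_
    have ih' := ih (fun s hs => hρ s (Finset.mem_insert_of_mem hs))
    have h3 : piPart (insert t ρ) (Nat.card G)
        = t ^ (Nat.card G).factorization t * piPart ρ (Nat.card G) := by
      unfold piPart; rw [Finset.prod_insert ht]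
    rw [h3]
    calc kpi (β ∪ ↑ρ) G * t ^ (Nat.card G).factorization t
        ≤ kpi β G * piPart ρ (Nat.card G) * t ^ (Nat.card G).factorization t :=
          Nat.mul_le_mul_right _ ih'
      _ = kpi β G * (t ^ (Nat.card G).factorization t * piPart ρ (Nat.card G)) := by ring

/-- Burnside: a Sylow subgroup central in its normalizer has a normal complement -/
theorem exists_normal_compl [Finite G] {s : ℕ} (hs : s.Prime) (Q : Subgroup G)
    (hQc : Nat.card Q = s ^ (Nat.card G).factorization s)
    (hN : Subgroup.normalizer (Q : Set G) ≤ Subgroup.centralizer (Q : Set G)) :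
    ∃ K : Subgroup G, K.Normal ∧ ¬ s ∣ Nat.card K ∧ K.index = Nat.card Q := by
  have : Fact s.Prime := ⟨hs⟩
  let S : Sylow s G := Sylow.ofCard Q hQc
  have hN' : Subgroup.normalizer ((S : Subgroup G) : Set G)
      ≤ Subgroup.centralizer ((S : Subgroup G) : Set G) := hN
  refine ⟨(MonoidHom.transferSylow S hN').ker, inferInstance,
    MonoidHom.not_dvd_card_ker_transferSylow S hN', ?_⟩
  exact (MonoidHom.ker_transferSylow_isComplement' S hN').symm.index_eq_card

/-- if the common normalizer of the family is its common centralizer, every member is central in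
its normalizer -/
theorem norm_le_cent [Finite G] {σ : Finset ℕ} {R : ℕ → Subgroup G} (hR : Fam σ ⊤ R)
    (hND : ∀ n ∈ NR σ R, n ∈ DR σ R) {s : ℕ} (hs : s ∈ σ) :
    Subgroup.normalizer (R s : Set G) ≤ Subgroup.centralizer (R s : Set G) := by
  intro n hn
  have hA1 : Fam σ (Subgroup.centralizer (R s : Set G)) R := by
    refine hR.mono le_top ?_
    intro t ht z hz
    rw [Subgroup.mem_centralizer_iff]
    intro w hw
    exact hR.comm s hs t ht w hw z hz
  have hB1 : Fam σ (Subgroup.centralizer (R s : Set G)) (fun t => cj n (R t)) := by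
    refine (hR.conj (Subgroup.mem_top n)).mono le_top ?_
    intro t ht z hz
    obtain ⟨w, hw, rfl⟩ := mem_cj.mp hz
    rw [Subgroup.mem_centralizer_iff]
    intro v hv
    have hv' : n⁻¹ * v * n ∈ R s := (Subgroup.mem_normalizer_iff''.mp hn v).mp hv
    have hc := hR.comm s hs t ht _ hv' w hw
    calc v * (n * w * n⁻¹) = n * ((n⁻¹ * v * n) * w) * n⁻¹ := by group
      _ = n * (w * (n⁻¹ * v * n)) * n⁻¹ := by rw [hc]
      _ = n * w * n⁻¹ * v := by group
  obtain ⟨c, hc, hcR⟩ := fam_conj σ _ _ R hB1 hA1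
  have hcn : c * n ∈ NR σ R := by
    apply mem_NR_of_conj
    intro t ht y hy
    have := hcR t ht _ (conj_mem_cj (g := n) hy)
    have e : c * n * y * (c * n)⁻¹ = c * (n * y * n⁻¹) * c⁻¹ := by group
    rw [e]; exact this
  have hcnD := mem_DR.mp (hND _ hcn) s hs
  have e : n = c⁻¹ * (c * n) := by group
  rw [e]
  exact Subgroup.mul_mem _ (Subgroup.inv_mem _ hc) hcnD

/-- if every member of the family centralizes some Sylow `p`-subgroup, then some Sylow
`p`-subgroup is centralized by the whole family -/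
theorem chain [Finite G] {p : ℕ} (hp : p.Prime) (σ : Finset ℕ) (R : ℕ → Subgroup G)
    (hR : Fam σ ⊤ R)
    (hK : ∀ s ∈ σ, ∃ K : Subgroup G, K.Normal ∧ ¬ s ∣ Nat.card K ∧ ¬ p ∣ K.index)
    (hP : ∀ s ∈ σ, ∃ P : Subgroup G, Nat.card P = p ^ (Nat.card G).factorization p ∧
      ∀ u ∈ P, ∀ y ∈ R s, u * y = y * u) :
    ∀ ρ : Finset ℕ, ρ ⊆ σ → ∃ P : Subgroup G, Nat.card P = p ^ (Nat.card G).factorization p ∧
      ∀ s ∈ ρ, ∀ u ∈ P, ∀ y ∈ R s, u * y = y * u := by
  intro ρ
  induction ρ using Finset.induction_on with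
  | empty =>
    intro _
    obtain ⟨P, -, hPc⟩ := exists_sylow_le (⊤ : Subgroup G) hp
    rw [Subgroup.card_top] at hPc
    exact ⟨P, hPc, fun s hs => absurd hs (Finset.notMem_empty s)⟩
  | insert s ρ hs ih =>
    intro hsub
    have hsσ : s ∈ σ := hsub (Finset.mem_insert_self s ρ)
    have hρσ : ρ ⊆ σ := fun t ht => hsub (Finset.mem_insert_of_mem ht)
    obtain ⟨P1, hP1c, hP1⟩ := ih hρσ
    obtain ⟨K, hKn, hKs, hKi⟩ := hK s hsσ
    have := hKn
    obtain ⟨P2, hP2c, hP2⟩ := hP s hsσ
    have hsp := hR.prime s hsσ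
    have hP1X : P1 ≤ DR ρ R := by
      intro u hu
      rw [mem_DR]
      intro t ht
      rw [Subgroup.mem_centralizer_iff]
      intro y hy
      exact (hP1 t ht u hu y hy).symm
    have hRX : R s ≤ DR ρ R := by
      intro y hy
      rw [mem_DR]
      intro t ht
      rw [Subgroup.mem_centralizer_iff]
      intro z hz
      exact hR.comm t (hρσ ht) s hsσ z hz y hy
    have hRp : IsPGroup s (R s) := IsPGroup.of_card (hR.card s hsσ)
    obtain ⟨T, hTX, hTc, hTinv⟩ := exists_invariant_sylow hp hsp (DR ρ R) K hKs hKi (R s) hRX hRp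
    have hvX : (Nat.card (DR ρ R)).factorization p = (Nat.card G).factorization p := by
      have := fact_eq hp hP1X (le_top : DR ρ R ≤ ⊤) (by rw [Subgroup.card_top]; exact hP1c)
      rwa [Subgroup.card_top] at this
    rw [hvX] at hTc
    have hTK := le_of_not_dvd_index hp K hKi (IsPGroup.of_card hTc)
    have hP2K := le_of_not_dvd_index hp K hKi (IsPGroup.of_card hP2c)
    obtain ⟨c, hcK, hcB, hcP⟩ := conj_invariant_sylow hp hsp K hKs (R s) hRp P2 T hP2K hTK
      hP2c hTc
      (fun b hb u hu => by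
        have h1 := hP2 u hu b hb
        have e : b * u * b⁻¹ = u := by rw [← h1]; group
        rw [e]; exact hu) hTinv
    have hback := conj_back hcP (by rw [hTc, hP2c])
    refine ⟨T, hTc, ?_⟩
    intro t ht u hu y hy
    rcases Finset.mem_insert.mp ht with rfl | ht'
    · have h1 := hP2 _ (hback u hu) y hy
      have hyc : y * c = c * y := hcB y hy
      have hyc' : c⁻¹ * y = y * c⁻¹ := by
        calc c⁻¹ * y = c⁻¹ * (y * c) * c⁻¹ := by group
          _ = c⁻¹ * (c * y) * c⁻¹ := by rw [hyc]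
          _ = y * c⁻¹ := by group
      calc u * y = c * (c⁻¹ * u * c) * (c⁻¹ * y) := by group
        _ = c * (c⁻¹ * u * c) * (y * c⁻¹) := by rw [hyc']
        _ = c * ((c⁻¹ * u * c) * y) * c⁻¹ := by group
        _ = c * (y * (c⁻¹ * u * c)) * c⁻¹ := by rw [h1]
        _ = (c * y) * (c⁻¹ * u * c) * c⁻¹ := by group
        _ = (y * c) * (c⁻¹ * u * c) * c⁻¹ := by rw [hyc]
        _ = y * u := by group
    · have h1 := mem_DR.mp (hTX hu) t ht'
      exact (Subgroup.mem_centralizer_iff.mp h1 y hy).symm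

/-- the case where the common normalizer of the family equals its common centralizer -/
theorem caseB2 [Finite G] (p : ℕ) (hp : p.Prime) (τ : Finset ℕ) (hpτ : p ∈ τ)
    (hτ : ∀ s ∈ τ.erase p, s.Prime ∧ p < s) (R : ℕ → Subgroup G) (hR : Fam (τ.erase p) ⊤ R)
    (hND : ∀ n ∈ NR (τ.erase p) R, n ∈ DR (τ.erase p) R)
    (hmany : piPart τ (Nat.card G) < p * kpi (↑τ) G) :
    ∃ P : Subgroup G, Nat.card P = p ^ (Nat.card G).factorization p ∧
      ∀ s ∈ τ.erase p, ∀ u ∈ P, ∀ y ∈ R s, u * y = y * u := by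
  have hcs : ∀ s ∈ τ.erase p, Nat.card (R s) = s ^ (Nat.card G).factorization s := by
    intro s hs
    rw [hR.card s hs, Subgroup.card_top]
  have hK : ∀ s ∈ τ.erase p, ∃ K : Subgroup G, K.Normal ∧ ¬ s ∣ Nat.card K ∧ ¬ p ∣ K.index := by
    intro s hs
    have hsp := (hτ s hs).1
    obtain ⟨K, hKn, hKs, hKi⟩ := exists_normal_compl hsp (R s) (hcs s hs) (norm_le_cent hR hND hs)
    refine ⟨K, hKn, hKs, ?_⟩
    rw [hKi, hcs s hs]
    intro hd
    have h1 := (Nat.prime_dvd_prime_iff_eq hp hsp).mp (hp.dvd_of_dvd_pow hd)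
    have h2 := (hτ s hs).2
    omega
  have hP : ∀ s ∈ τ.erase p, ∃ P : Subgroup G, Nat.card P = p ^ (Nat.card G).factorization p ∧
      ∀ u ∈ P, ∀ y ∈ R s, u * y = y * u := by
    intro s hs
    obtain ⟨K, hKn, hKs, hKi⟩ := hK s hs
    have := hKn
    have hsp := (hτ s hs).1
    apply two_prime hp hsp (hτ s hs).2 (R s) (hcs s hs)
      (fun x hx y hy => hR.comm s hs s hs x hx y hy) K hKs hKi
    have hρp : ∀ t ∈ (τ.erase p).erase s, t.Prime := fun t ht =>
      (hτ t (Finset.mem_of_mem_erase ht)).1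
    have h1 := kpi_union_le (G := G) (insert p ({s} : Set ℕ)) ((τ.erase p).erase s) hρp
    have hset : insert p ({s} : Set ℕ) ∪ ↑((τ.erase p).erase s) = (↑τ : Set ℕ) := by
      ext t
      simp only [Set.mem_union, Set.mem_insert_iff, Set.mem_singleton_iff, Finset.mem_coe,
        Finset.mem_erase]
      constructor
      · rintro ((rfl | rfl) | ⟨_, _, h⟩)
        · exact hpτ
        · exact Finset.mem_of_mem_erase hs
        · exact h
      · intro h
        by_cases h1 : t = p
        · left; left; exact h1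
        · by_cases h2 : t = s
          · left; right; exact h2
          · right; exact ⟨h2, h1, h⟩
    rw [hset] at h1
    have hm1 := piPart_eq_mul_erase τ hpτ (Nat.card G)
    have hm2 := piPart_eq_mul_erase (τ.erase p) hs (Nat.card G)
    have hpos : 0 < piPart ((τ.erase p).erase s) (Nat.card G) := piPart_pos _ hρp _
    rw [hm1, hm2] at hmany
    have h3 : (p ^ (Nat.card G).factorization p * Nat.card (R s))
          * piPart ((τ.erase p).erase s) (Nat.card G)
        < (p * kpi (insert p ({s} : Set ℕ)) G) * piPart ((τ.erase p).erase s) (Nat.card G) := by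
      calc (p ^ (Nat.card G).factorization p * Nat.card (R s))
            * piPart ((τ.erase p).erase s) (Nat.card G)
          = p ^ (Nat.card G).factorization p * (s ^ (Nat.card G).factorization s
              * piPart ((τ.erase p).erase s) (Nat.card G)) := by rw [hcs s hs]; ring
        _ < p * kpi (↑τ) G := hmany
        _ ≤ p * (kpi (insert p ({s} : Set ℕ)) G * piPart ((τ.erase p).erase s) (Nat.card G)) :=
            Nat.mul_le_mul_left _ h1
        _ = (p * kpi (insert p ({s} : Set ℕ)) G) * piPart ((τ.erase p).erase s) (Nat.card G) := by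
            ring
    exact Nat.lt_of_mul_lt_mul_right h3
  exact chain hp (τ.erase p) R hR hK hP (τ.erase p) (Finset.Subset.refl _)

/-! ### The normal `p`-complement case -/

theorem card_inf_centralizer_conj [Finite G] {P : Subgroup G} {g : G} (hg : g ∈ P) (y : G) :
    Nat.card (P ⊓ Subgroup.centralizer ({g * y * g⁻¹} : Set G) : Subgroup G)
      = Nat.card (P ⊓ Subgroup.centralizer ({y} : Set G) : Subgroup G) := by
  have h : cj g (P ⊓ Subgroup.centralizer ({y} : Set G))
      = P ⊓ Subgroup.centralizer ({g * y * g⁻¹} : Set G) := by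
    apply le_antisymm
    · intro x hx
      obtain ⟨z, hz, rfl⟩ := mem_cj.mp hx
      have hz' := Subgroup.mem_inf.mp hz
      refine Subgroup.mem_inf.mpr ⟨P.mul_mem (P.mul_mem hg hz'.1) (P.inv_mem hg), ?_⟩
      rw [Subgroup.mem_centralizer_iff]
      intro w hw
      rw [Set.mem_singleton_iff] at hw
      rw [hw]
      have hc : y * z = z * y := Subgroup.mem_centralizer_iff.mp hz'.2 y (Set.mem_singleton y)
      calc g * y * g⁻¹ * (g * z * g⁻¹) = g * (y * z) * g⁻¹ := by group
        _ = g * (z * y) * g⁻¹ := by rw [hc]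
        _ = g * z * g⁻¹ * (g * y * g⁻¹) := by group
    · intro x hx
      have hx' := Subgroup.mem_inf.mp hx
      rw [mem_cj]
      refine ⟨g⁻¹ * x * g,
        Subgroup.mem_inf.mpr ⟨P.mul_mem (P.mul_mem (P.inv_mem hg) hx'.1) hg, ?_⟩, by group⟩
      rw [Subgroup.mem_centralizer_iff]
      intro w hw
      rw [Set.mem_singleton_iff] at hw
      rw [hw]
      have hc : g * y * g⁻¹ * x = x * (g * y * g⁻¹) :=
        Subgroup.mem_centralizer_iff.mp hx'.2 _ (Set.mem_singleton _)
      calc y * (g⁻¹ * x * g) = g⁻¹ * (g * y * g⁻¹ * x) * g := by group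
        _ = g⁻¹ * (x * (g * y * g⁻¹)) * g := by rw [hc]
        _ = g⁻¹ * x * g * y := by group
  rw [← h, card_cj]

theorem caseA_arith {p a b kk Sω S2 h0 w : ℕ} (hp : 0 < p) (ha : 0 < a) (hk1 : kk ≤ Sω)
    (hk3 : Sω * a ≤ S2) (hsum : p ^ 2 * S2 ≤ h0 * (p ^ 2 * a ^ 2) + w * a ^ 2)
    (hzw : h0 + w = b) (hH0c : (p + 1) * h0 ≤ b) : p * kk ≤ a * b := by
  obtain ⟨e, rfl⟩ : ∃ e, p = e + 1 := ⟨p - 1, by omega⟩
  have h1 : (e + 1) * h0 ≤ w := by rw [← hzw] at hH0c; linarith
  have h2 : h0 * (e + 1) ^ 2 + w ≤ (e + 1) * b := by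
    rw [← hzw]
    nlinarith [Nat.mul_le_mul_left e h1]
  have h3 : ((e + 1) * a) * ((e + 1) * kk) ≤ ((e + 1) * a) * (a * b) := by
    calc ((e + 1) * a) * ((e + 1) * kk) = (e + 1) ^ 2 * (kk * a) := by ring
      _ ≤ (e + 1) ^ 2 * (Sω * a) := Nat.mul_le_mul_left _ (Nat.mul_le_mul_right _ hk1)
      _ ≤ (e + 1) ^ 2 * S2 := Nat.mul_le_mul_left _ hk3
      _ ≤ h0 * ((e + 1) ^ 2 * a ^ 2) + w * a ^ 2 := hsum
      _ = a ^ 2 * (h0 * (e + 1) ^ 2 + w) := by ring
      _ ≤ a ^ 2 * ((e + 1) * b) := Nat.mul_le_mul_left _ h2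
      _ = ((e + 1) * a) * (a * b) := by ring
  exact Nat.le_of_mul_le_mul_left h3 (by positivity)

theorem caseA' [Finite G] (p : ℕ) (hp : p.Prime) (τ : Finset ℕ) (hpτ : p ∈ τ)
    (hτ : ∀ s ∈ τ.erase p, s.Prime ∧ p < s)
    (K : Subgroup G) [K.Normal] (hK : ¬ p ∣ Nat.card K)
    (R : ℕ → Subgroup G) (hR : Fam (τ.erase p) ⊤ R) (hRK : ∀ s ∈ τ.erase p, R s ≤ K)
    (hmany : piPart τ (Nat.card G) < p * kpi (↑τ) G) :
    ∃ P : Subgroup G, Nat.card P = p ^ (Nat.card G).factorization p ∧
      ∀ s ∈ τ.erase p, ∀ u ∈ P, ∀ y ∈ R s, u * y = y * u := by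
  classical
  have hσp : ∀ s ∈ τ.erase p, s.Prime := fun s hs => (hτ s hs).1
  have hτσ : insert p (τ.erase p) = τ := Finset.insert_erase hpτ
  obtain ⟨R1, hR1le, hR1c⟩ := exists_sylow_le (NR (τ.erase p) R) hp
  have hval : (Nat.card (NR (τ.erase p) R)).factorization p = (Nat.card G).factorization p := by
    have := frattini_val hR K hK hRK ⊤ (fun s _ => le_top)
    rwa [top_inf_eq, Subgroup.card_top] at this
  have hR1c' : Nat.card R1 = p ^ (Nat.card G).factorization p := by rw [← hval]; exact hR1c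
  by_cases hcent : ∀ s ∈ τ.erase p, ∀ x ∈ R1, ∀ y ∈ R s, x * y = y * x
  · exact ⟨R1, hR1c', hcent⟩
  · exfalso
    push Not at hcent
    obtain ⟨s0, hs0, x0, hx0, y0, hy0, hne0⟩ := hcent
    have : Fintype G := Fintype.ofFinite G
    let _ : Fintype (PiCls (↑(τ.erase p) : Set ℕ) G) := Fintype.ofFinite _
    have hbc : Nat.card (hull (τ.erase p) R) = piPart (τ.erase p) (Nat.card G) := by
      rw [hR.card_hull, Subgroup.card_top]
    have hm : piPart τ (Nat.card G)
        = p ^ (Nat.card G).factorization p * piPart (τ.erase p) (Nat.card G) :=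
      piPart_eq_mul_erase τ hpτ _
    -- representatives
    have hreps : ∀ c : PiCls (↑(τ.erase p) : Set ℕ) G, ∃ y : G, y ∈ hull (τ.erase p) R ∧
        (∃ h : IsPiElt (↑(τ.erase p)) y, mkPi y h = c) ∧
        (Tset {p} y).ncard ≤ Nat.card (R1 ⊓ Subgroup.centralizer ({y} : Set G) : Subgroup G) := by
      intro c
      obtain ⟨y0, hy0pi, hy0c⟩ := exists_rep c
      obtain ⟨g, -, hgy⟩ := fam_cover (τ.erase p) ⊤ R hR y0 (Subgroup.mem_top _) hy0pi
      have hypi : IsPiElt (↑(τ.erase p)) (g * y0 * g⁻¹) := isPiElt_conj g hy0pi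
      have hyc : mkPi (g * y0 * g⁻¹) hypi = c := by
        rw [← hy0c, eq_comm, mkPi_eq_iff]; exact ⟨g, rfl⟩
      generalize g * y0 * g⁻¹ = y at hgy hypi hyc
      have hRX : ∀ s ∈ τ.erase p, R s ≤ Subgroup.centralizer ({y} : Set G) := by
        intro s hs x hx
        rw [Subgroup.mem_centralizer_iff]
        intro z hz
        rw [Set.mem_singleton_iff] at hz
        rw [hz]
        exact hR.hull_comm hgy (le_hull hs hx)
      have hv := frattini_val hR K hK hRK (Subgroup.centralizer ({y} : Set G)) hRX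
      obtain ⟨S, hSle, hSc⟩ :=
        exists_sylow_le (Subgroup.centralizer ({y} : Set G) ⊓ NR (τ.erase p) R) hp
      rw [hv] at hSc
      obtain ⟨n, hn, hnS⟩ := conj_into (NR (τ.erase p) R) hp (hSle.trans inf_le_right) hR1le
        (IsPGroup.of_card hSc) hR1c
      refine ⟨n * y * n⁻¹, NR_conj_hull hn hgy, ⟨isPiElt_conj n hypi, ?_⟩, ?_⟩
      · rw [← hyc, eq_comm, mkPi_eq_iff]; exact ⟨n, rfl⟩
      · have h1 := (ncard_Tset_le ({p} : Set ℕ) (n * y * n⁻¹)).trans (kpi_prime_le hp)
        have h2 : Subgroup.centralizer ({n * y * n⁻¹} : Set G)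
            ≤ cj n (Subgroup.centralizer ({y} : Set G)) := by
          intro x hx
          rw [mem_cj]
          refine ⟨n⁻¹ * x * n, ?_, by group⟩
          rw [Subgroup.mem_centralizer_iff]
          intro z hz
          rw [Set.mem_singleton_iff] at hz
          rw [hz]
          have hx' := Subgroup.mem_centralizer_iff.mp hx _ (Set.mem_singleton _)
          calc y * (n⁻¹ * x * n) = n⁻¹ * ((n * y * n⁻¹) * x) * n := by group
            _ = n⁻¹ * (x * (n * y * n⁻¹)) * n := by rw [hx']
            _ = n⁻¹ * x * n * y := by group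
        have h3 : (Nat.card (Subgroup.centralizer ({n * y * n⁻¹} : Set G))).factorization p
            ≤ (Nat.card (Subgroup.centralizer ({y} : Set G))).factorization p := by
          have hd := Subgroup.card_dvd_of_le h2
          rw [card_cj] at hd
          exact (Nat.factorization_le_iff_dvd Nat.card_pos.ne' Nat.card_pos.ne').mpr hd p
        have h4 : cj n S ≤ R1 ⊓ Subgroup.centralizer ({n * y * n⁻¹} : Set G) := by
          intro x hx
          obtain ⟨z, hz, rfl⟩ := mem_cj.mp hx
          refine Subgroup.mem_inf.mpr ⟨hnS z hz, ?_⟩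
          rw [Subgroup.mem_centralizer_iff]
          intro w hw
          rw [Set.mem_singleton_iff] at hw
          rw [hw]
          have hz' := Subgroup.mem_centralizer_iff.mp (Subgroup.mem_inf.mp (hSle hz)).1 y
            (Set.mem_singleton y)
          calc n * y * n⁻¹ * (n * z * n⁻¹) = n * (y * z) * n⁻¹ := by group
            _ = n * (z * y) * n⁻¹ := by rw [hz']
            _ = n * z * n⁻¹ * (n * y * n⁻¹) := by group
        calc (Tset {p} (n * y * n⁻¹)).ncard
            ≤ p ^ (Nat.card (Subgroup.centralizer ({n * y * n⁻¹} : Set G))).factorization p := h1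
          _ ≤ p ^ (Nat.card (Subgroup.centralizer ({y} : Set G))).factorization p :=
              Nat.pow_le_pow_right hp.pos h3
          _ = Nat.card (cj n S) := by rw [card_cj, hSc]
          _ ≤ Nat.card (R1 ⊓ Subgroup.centralizer ({n * y * n⁻¹} : Set G) : Subgroup G) :=
              Subgroup.card_le_of_le h4
    choose yy hyyH hyyc hyyT using hreps
    have hk1 : kpi (↑τ) G
        ≤ ∑ c, Nat.card (R1 ⊓ Subgroup.centralizer ({yy c} : Set G) : Subgroup G) := by
      have h1 := kpi_le_sum_Tset (↑(τ.erase p) : Set ℕ) hp yy hyyc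
      have h2 : (insert p (↑(τ.erase p) : Set ℕ)) = ↑τ := by rw [← Finset.coe_insert, hτσ]
      rw [h2] at h1
      exact h1.trans (Finset.sum_le_sum (fun c _ => hyyT c))
    have hk3 : (∑ c, Nat.card (R1 ⊓ Subgroup.centralizer ({yy c} : Set G) : Subgroup G))
        * p ^ (Nat.card G).factorization p
        ≤ ∑ z ∈ elts (hull (τ.erase p) R),
          Nat.card (R1 ⊓ Subgroup.centralizer ({z} : Set G) : Subgroup G)
            * Nat.card (R1 ⊓ Subgroup.centralizer ({z} : Set G) : Subgroup G) := by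
      have := orbit_weighted R1 (fun g z => g * z * g⁻¹) (by intro x; simp)
        (by intro g h x; group) (elts (hull (τ.erase p) R))
        (fun z => Nat.card (R1 ⊓ Subgroup.centralizer ({z} : Set G) : Subgroup G)) yy
        (fun c g hg => by
          show Nat.card (R1 ⊓ Subgroup.centralizer ({g * yy c * g⁻¹} : Set G) : Subgroup G) = _
          rw [card_inf_centralizer_conj hg])
        (fun c g hg => mem_elts.mpr (NR_conj_hull (hR1le hg) (hyyH c)))
        (fun c c' g hg heq => by
          obtain ⟨h1, e1⟩ := hyyc c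
          obtain ⟨h2, e2⟩ := hyyc c'
          rw [← e1, ← e2, mkPi_eq_iff]
          exact ⟨g, heq⟩)
      rw [hR1c'] at this
      refine this.trans (le_of_eq (Finset.sum_congr rfl (fun z _ => by rw [stc_conj_eq])))
    have hω1 : ∀ z : G, Nat.card (R1 ⊓ Subgroup.centralizer ({z} : Set G) : Subgroup G)
        ≤ p ^ (Nat.card G).factorization p := fun z => by
      rw [← hR1c']; exact Subgroup.card_le_of_le inf_le_left
    have hω2 : ∀ z : G, z ∉ Subgroup.centralizer (R1 : Set G) →
        p * Nat.card (R1 ⊓ Subgroup.centralizer ({z} : Set G) : Subgroup G)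
          ≤ p ^ (Nat.card G).factorization p := by
      intro z hz
      rw [← hR1c']
      apply card_idx_le inf_le_left
      · intro hEq
        apply hz
        rw [Subgroup.mem_centralizer_iff]
        intro x hx
        have hx' : x ∈ R1 ⊓ Subgroup.centralizer ({z} : Set G) := by rw [hEq]; exact hx
        exact (Subgroup.mem_centralizer_iff.mp (Subgroup.mem_inf.mp hx').2 z
          (Set.mem_singleton z)).symm
      · intro l hl hld
        rw [hR1c'] at hld
        exact Nat.le_of_eq ((Nat.prime_dvd_prime_iff_eq hl hp).mp (hl.dvd_of_dvd_pow hld)).symm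
    have hH0 : hull (τ.erase p) R ⊓ Subgroup.centralizer (R1 : Set G) ≠ hull (τ.erase p) R := by
      intro hEq
      have : y0 ∈ hull (τ.erase p) R ⊓ Subgroup.centralizer (R1 : Set G) := by
        rw [hEq]; exact le_hull hs0 hy0
      exact hne0 (Subgroup.mem_centralizer_iff.mp (Subgroup.mem_inf.mp this).2 x0 hx0)
    have hH0c : (p + 1)
        * Nat.card (hull (τ.erase p) R ⊓ Subgroup.centralizer (R1 : Set G) : Subgroup G)
        ≤ piPart (τ.erase p) (Nat.card G) := by
      rw [← hbc]
      apply card_idx_le inf_le_left hH0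
      intro l hl hld
      rw [hbc] at hld
      exact (hτ l (prime_dvd_piPart hσp hl hld)).2
    have hc0 : ((elts (hull (τ.erase p) R)).filter
        (fun z => z ∈ Subgroup.centralizer (R1 : Set G))).card
        = Nat.card (hull (τ.erase p) R ⊓ Subgroup.centralizer (R1 : Set G) : Subgroup G) :=
      (Nat.subtype_card _ (fun x => by
        simp only [Finset.mem_filter, mem_elts, Subgroup.mem_inf])).symm
    have hzw : ((elts (hull (τ.erase p) R)).filter
        (fun z => z ∈ Subgroup.centralizer (R1 : Set G))).card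
        + ((elts (hull (τ.erase p) R)).filter
        (fun z => ¬ z ∈ Subgroup.centralizer (R1 : Set G))).card
        = piPart (τ.erase p) (Nat.card G) := by
      rw [Finset.card_filter_add_card_filter_not, card_elts, hbc]
    rw [hc0] at hzw
    have hsum : p ^ 2 * ∑ z ∈ elts (hull (τ.erase p) R),
          Nat.card (R1 ⊓ Subgroup.centralizer ({z} : Set G) : Subgroup G)
            * Nat.card (R1 ⊓ Subgroup.centralizer ({z} : Set G) : Subgroup G)
        ≤ Nat.card (hull (τ.erase p) R ⊓ Subgroup.centralizer (R1 : Set G) : Subgroup G)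
            * (p ^ 2 * (p ^ (Nat.card G).factorization p) ^ 2)
          + ((elts (hull (τ.erase p) R)).filter
              (fun z => ¬ z ∈ Subgroup.centralizer (R1 : Set G))).card
            * (p ^ (Nat.card G).factorization p) ^ 2 := by
      rw [Finset.mul_sum]
      refine le_trans (Finset.sum_le_sum (g := fun z =>
        if z ∈ Subgroup.centralizer (R1 : Set G)
          then p ^ 2 * (p ^ (Nat.card G).factorization p) ^ 2
          else (p ^ (Nat.card G).factorization p) ^ 2) ?_) ?_
      · intro z _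
        split_ifs with hz
        · have := hω1 z
          have h5 := Nat.mul_le_mul this this
          rw [← pow_two (p ^ (Nat.card G).factorization p)] at h5
          exact Nat.mul_le_mul_left _ h5
        · have := hω2 z hz
          have h5 := Nat.mul_le_mul this this
          rw [← pow_two (p ^ (Nat.card G).factorization p)] at h5
          calc p ^ 2 * (Nat.card (R1 ⊓ Subgroup.centralizer ({z} : Set G) : Subgroup G)
                * Nat.card (R1 ⊓ Subgroup.centralizer ({z} : Set G) : Subgroup G))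
              = p * Nat.card (R1 ⊓ Subgroup.centralizer ({z} : Set G) : Subgroup G)
                * (p * Nat.card (R1 ⊓ Subgroup.centralizer ({z} : Set G) : Subgroup G)) := by
                ring
            _ ≤ (p ^ (Nat.card G).factorization p) ^ 2 := h5
      · rw [Finset.sum_ite, Finset.sum_const, Finset.sum_const, smul_eq_mul, smul_eq_mul, hc0]
    have hfinal := caseA_arith hp.pos (pow_pos hp.pos _) hk1 hk3 hsum hzw hH0c
    rw [hm] at hmany
    exact absurd hmany (not_lt.mpr hfinal)

/-! ### The counting case -/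

theorem many_arith {p b k : ℕ} (hp : 0 < p) (h : b < p * k) :
    b * ((p + 1) ^ 2 + p) < (p + 1) ^ 3 * k := by
  have e1 : (p + 1) ^ 3 = p * ((p + 1) ^ 2 + p) + (2 * p + 1) := by ring
  have h1 : p * (b * ((p + 1) ^ 2 + p)) < p * ((p + 1) ^ 3 * k) := by
    calc p * (b * ((p + 1) ^ 2 + p)) = b * (p * ((p + 1) ^ 2 + p)) := by ring
      _ ≤ b * (p + 1) ^ 3 := Nat.mul_le_mul_left _ (by rw [e1]; exact Nat.le_add_right _ _)
      _ < (b + 1) * (p + 1) ^ 3 := Nat.mul_lt_mul_of_pos_right (Nat.lt_succ_self b) (by positivity)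
      _ ≤ (p * k) * (p + 1) ^ 3 := Nat.mul_le_mul_right _ h
      _ = p * ((p + 1) ^ 3 * k) := by ring
  exact Nat.lt_of_mul_lt_mul_left h1

/-- a `p`-element not conjugate into the common centralizer of the family has few classes of
σ-elements in its centralizer -/
theorem bad_bound [Finite G] (p : ℕ) (hp : 0 < p) (σ : Finset ℕ)
    (hσ : ∀ s ∈ σ, s.Prime ∧ p < s) (R : ℕ → Subgroup G) (hR : Fam σ ⊤ R) (x : G)
    (hxD : ∀ g : G, g * x * g⁻¹ ∉ DR σ R) :
    p * kpi (↑σ) (Subgroup.centralizer ({x} : Set G)) ≤ piPart σ (Nat.card G) := by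
  have hσp : ∀ s ∈ σ, s.Prime := fun s hs => (hσ s hs).1
  by_contra hlt
  push Not at hlt
  have hvle : ∀ s, (Nat.card (Subgroup.centralizer ({x} : Set G))).factorization s
      ≤ (Nat.card G).factorization s := fun s =>
    (Nat.factorization_le_iff_dvd Nat.card_pos.ne' Nat.card_pos.ne').mpr
      (Subgroup.card_subgroup_dvd_card _) s
  by_cases hval : ∀ s ∈ σ, (Nat.card G).factorization s
      ≤ (Nat.card (Subgroup.centralizer ({x} : Set G))).factorization s
  · have hpp : piPart σ (Nat.card (Subgroup.centralizer ({x} : Set G)))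
        = piPart σ (Nat.card G) := by
      unfold piPart
      apply Finset.prod_congr rfl
      intro s hs
      rw [le_antisymm (hvle s) (hval s hs)]
    rw [← hpp] at hlt
    have hF : (p + 1) ^ 2 + (p + 1) - 1 = (p + 1) ^ 2 + p := by omega
    have hlt' : piPart σ (Nat.card (Subgroup.centralizer ({x} : Set G)))
          * ((p + 1) ^ 2 + (p + 1) - 1)
        < (p + 1) ^ 3 * kpi (↑σ) (Subgroup.centralizer ({x} : Set G)) := by
      rw [hF]
      exact many_arith hp hlt
    obtain ⟨R', hR'⟩ := exists_fam (p + 1) (by omega) σ (Subgroup.centralizer ({x} : Set G))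
      (fun s hs => ⟨(hσ s hs).1, (hσ s hs).2⟩) hlt'
    have hR'' : Fam σ ⊤
        (fun s => (R' s).map (Subgroup.centralizer ({x} : Set G)).subtype) := by
      refine ⟨hσp, fun s _ => le_top, ?_, ?_⟩
      · intro s hs
        show Nat.card ((R' s).map (Subgroup.centralizer ({x} : Set G)).subtype) = _
        rw [Subgroup.card_subtype, hR'.card s hs, Subgroup.card_top, Subgroup.card_top,
          le_antisymm (hvle s) (hval s hs)]
      · intro s hs t ht a ha b hb
        obtain ⟨a', ha', rfl⟩ := Subgroup.mem_map.mp ha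
        obtain ⟨b', hb', rfl⟩ := Subgroup.mem_map.mp hb
        have h2 := congrArg Subtype.val (hR'.comm s hs t ht a' ha' b' hb')
        simpa using h2
    obtain ⟨g, -, hgR⟩ := fam_conj σ ⊤ _ R hR'' hR
    apply hxD g
    rw [mem_DR]
    intro s hs
    have heq : cj g ((R' s).map (Subgroup.centralizer ({x} : Set G)).subtype) = R s := by
      apply Subgroup.eq_of_le_of_card_ge
      · intro z hz
        obtain ⟨w, hw, rfl⟩ := mem_cj.mp hz
        exact hgR s hs w hw
      · rw [card_cj, hR''.card s hs, hR.card s hs]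
    rw [Subgroup.mem_centralizer_iff]
    intro y hy
    rw [← heq] at hy
    obtain ⟨w, hw, rfl⟩ := mem_cj.mp hy
    obtain ⟨w', hw', rfl⟩ := Subgroup.mem_map.mp hw
    have hwx : x * (w' : G) = (w' : G) * x :=
      Subgroup.mem_centralizer_iff.mp w'.2 x (Set.mem_singleton x)
    show g * (w' : G) * g⁻¹ * (g * x * g⁻¹) = g * x * g⁻¹ * (g * (w' : G) * g⁻¹)
    calc g * (w' : G) * g⁻¹ * (g * x * g⁻¹) = g * ((w' : G) * x) * g⁻¹ := by group
      _ = g * (x * (w' : G)) * g⁻¹ := by rw [hwx]
      _ = g * x * g⁻¹ * (g * (w' : G) * g⁻¹) := by group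
  · push Not at hval
    obtain ⟨s, hs, hslt⟩ := hval
    have hsp := hσp s hs
    have h1 := kpi_le_piPart σ hσp (Subgroup.centralizer ({x} : Set G))
    have h2 : s * piPart σ (Nat.card (Subgroup.centralizer ({x} : Set G)))
        ≤ piPart σ (Nat.card G) := by
      rw [piPart_eq_mul_erase σ hs (Nat.card (Subgroup.centralizer ({x} : Set G))),
        piPart_eq_mul_erase σ hs (Nat.card G), ← mul_assoc, ← pow_succ']
      apply Nat.mul_le_mul
      · exact Nat.pow_le_pow_right hsp.pos hslt
      · exact piPart_le_of_dvd _ (fun t ht => hσp t (Finset.mem_of_mem_erase ht))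
          Nat.card_pos.ne' Nat.card_pos.ne' (Subgroup.card_subgroup_dvd_card _)
    have hps : p ≤ s := (hσ s hs).2.le
    have h3 : p * kpi (↑σ) (Subgroup.centralizer ({x} : Set G)) ≤ piPart σ (Nat.card G) := by
      calc p * kpi (↑σ) (Subgroup.centralizer ({x} : Set G))
          ≤ p * piPart σ (Nat.card (Subgroup.centralizer ({x} : Set G))) :=
            Nat.mul_le_mul_left _ h1
        _ ≤ s * piPart σ (Nat.card (Subgroup.centralizer ({x} : Set G))) :=
            Nat.mul_le_mul_right _ hps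
        _ ≤ piPart σ (Nat.card G) := h2
    exact absurd hlt (not_lt.mpr h3)

theorem caseC_arith' {e a b a' K img Sbad ng nb kq nN nD : ℕ} (hnN : 0 < nN)
    (f1 : K ≤ img + Sbad) (f2 : (e + 1) * Sbad ≤ nb * b)
    (f3 : (e + 1) * (img * nN) ≤ b * (ng * nN) + e * b * (a' * nD))
    (f4 : 2 * nD ≤ nN) (f5 : (e + 1) * a' ≤ a) (f6 : ng + nb = kq)
    (f7 : 2 * (e + 1) * kq ≤ (e + 1 + 1) * a) : (e + 1) * K ≤ a * b := by
  have hg0 : (2 * (e + 1) * img) * nN ≤ (2 * b * ng + e * b * a') * nN := by
    calc (2 * (e + 1) * img) * nN = 2 * ((e + 1) * (img * nN)) := by ring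
      _ ≤ 2 * (b * (ng * nN) + e * b * (a' * nD)) := Nat.mul_le_mul_left _ f3
      _ = 2 * b * ng * nN + e * b * a' * (2 * nD) := by ring
      _ ≤ 2 * b * ng * nN + e * b * a' * nN :=
          Nat.add_le_add_left (Nat.mul_le_mul_left _ f4) _
      _ = (2 * b * ng + e * b * a') * nN := by ring
  have hg1 : 2 * (e + 1) * img ≤ 2 * b * ng + e * b * a' := Nat.le_of_mul_le_mul_right hg0 hnN
  have hg2 : 2 * (e + 1) * ((e + 1) * img) ≤ 2 * (e + 1) * b * ng + e * b * a := by
    calc 2 * (e + 1) * ((e + 1) * img) = (e + 1) * (2 * (e + 1) * img) := by ring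
      _ ≤ (e + 1) * (2 * b * ng + e * b * a') := Nat.mul_le_mul_left _ hg1
      _ = 2 * (e + 1) * b * ng + e * b * ((e + 1) * a') := by ring
      _ ≤ 2 * (e + 1) * b * ng + e * b * a :=
          Nat.add_le_add_left (Nat.mul_le_mul_left _ f5) _
  have hfin : 2 * (e + 1) * ((e + 1) * K) ≤ 2 * (e + 1) * (a * b) := by
    calc 2 * (e + 1) * ((e + 1) * K) ≤ 2 * (e + 1) * ((e + 1) * (img + Sbad)) :=
          Nat.mul_le_mul_left _ (Nat.mul_le_mul_left _ f1)
      _ = 2 * (e + 1) * ((e + 1) * img) + 2 * (e + 1) * ((e + 1) * Sbad) := by ring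
      _ ≤ (2 * (e + 1) * b * ng + e * b * a) + 2 * (e + 1) * (nb * b) :=
          Nat.add_le_add hg2 (Nat.mul_le_mul_left _ f2)
      _ = b * (2 * (e + 1) * (ng + nb)) + e * b * a := by ring
      _ = b * (2 * (e + 1) * kq) + e * b * a := by rw [f6]
      _ ≤ b * ((e + 1 + 1) * a) + e * b * a :=
          Nat.add_le_add_right (Nat.mul_le_mul_left _ f7) _
      _ = 2 * (e + 1) * (a * b) := by ring
  exact Nat.le_of_mul_le_mul_left hfin (by positivity)

open scoped Classical in
theorem caseC' [Finite G] (p : ℕ) (hp : p.Prime) (τ : Finset ℕ) (hpτ : p ∈ τ)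
    (hτ : ∀ s ∈ τ.erase p, s.Prime ∧ p < s)
    (R : ℕ → Subgroup G) (hR : Fam (τ.erase p) ⊤ R)
    (hND : ∃ n ∈ NR (τ.erase p) R, n ∉ DR (τ.erase p) R)
    (hcount : 2 * p * kpi {p} G ≤ (p + 1) * p ^ (Nat.card G).factorization p)
    (hmany : piPart τ (Nat.card G) < p * kpi (↑τ) G) :
    ∃ P : Subgroup G, Nat.card P = p ^ (Nat.card G).factorization p ∧
      ∀ s ∈ τ.erase p, ∀ u ∈ P, ∀ y ∈ R s, u * y = y * u := by
  have hσp : ∀ s ∈ τ.erase p, s.Prime := fun s hs => (hτ s hs).1
  obtain ⟨QD, hQDle, hQDc⟩ := exists_sylow_le (DR (τ.erase p) R) hp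
  have hvle : (Nat.card (DR (τ.erase p) R)).factorization p ≤ (Nat.card G).factorization p :=
    (Nat.factorization_le_iff_dvd Nat.card_pos.ne' Nat.card_pos.ne').mpr
      (Subgroup.card_subgroup_dvd_card _) p
  rcases hvle.eq_or_lt with hveq | hvlt
  · rw [hveq] at hQDc
    refine ⟨QD, hQDc, ?_⟩
    intro s hs x hx y hy
    exact (Subgroup.mem_centralizer_iff.mp (mem_DR.mp (hQDle hx) s hs) y hy).symm
  · exfalso
    obtain ⟨n0, hn0N, hn0D⟩ := hND
    have : Fintype G := Fintype.ofFinite G
    let _ : Fintype (PiCls ({p} : Set ℕ) G) := Fintype.ofFinite _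
    have hbc : Nat.card (hull (τ.erase p) R) = piPart (τ.erase p) (Nat.card G) := by
      rw [hR.card_hull, Subgroup.card_top]
    have hm : piPart τ (Nat.card G)
        = p ^ (Nat.card G).factorization p * piPart (τ.erase p) (Nat.card G) :=
      piPart_eq_mul_erase τ hpτ _
    have ha' : p * Nat.card QD ≤ p ^ (Nat.card G).factorization p := by
      rw [hQDc, ← pow_succ']
      exact Nat.pow_le_pow_right hp.pos hvlt
    have hDN : 2 * Nat.card (DR (τ.erase p) R) ≤ Nat.card (NR (τ.erase p) R) := by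
      apply card_idx_le (DR_le_NR _ _)
      · intro hEq
        apply hn0D
        rw [hEq]; exact hn0N
      · intro l hl _
        exact hl.two_le
    choose rep hrep hrep' using (exists_rep (π := ({p} : Set ℕ)) (G := G))
    have hbad : ∀ x : G, (∀ g : G, g * x * g⁻¹ ∉ DR (τ.erase p) R) →
        p * kpi (↑(τ.erase p)) (Subgroup.centralizer ({x} : Set G))
          ≤ piPart (τ.erase p) (Nat.card G) :=
      fun x hx => bad_bound p hp.pos (τ.erase p) hτ R hR x hx
    have hl : ∀ l : ℕ, l.Prime → l ∣ Nat.card (hull (τ.erase p) R) → p ≤ l := by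
      intro l hl hld
      rw [hbc] at hld
      exact (hτ l (prime_dvd_piPart hσp hl hld)).2.le
    have f1 := caseC_cover hpτ hp R hR rep (fun c => ⟨hrep c, hrep' c⟩)
    have hK2 : ∀ c ∈ Finset.univ.filter (fun c => ¬ Good (τ.erase p) R p c),
        p * (Tset (↑(τ.erase p)) (rep c)).ncard ≤ piPart (τ.erase p) (Nat.card G) := by
      intro c hc
      have hcb : ¬ Good (τ.erase p) R p c := (Finset.mem_filter.mp hc).2
      refine (Nat.mul_le_mul_left _ (ncard_Tset_le _ _)).trans (hbad (rep c) ?_)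
      intro g hgD
      apply hcb
      exact ⟨g * rep c * g⁻¹, hgD, isPiElt_conj g (hrep c),
        ((mkPi_eq_iff (hrep c) (isPiElt_conj g (hrep c))).mpr ⟨g, rfl⟩).symm.trans (hrep' c)⟩
    have f2 : p * ∑ c ∈ Finset.univ.filter (fun c => ¬ Good (τ.erase p) R p c),
          (Tset (↑(τ.erase p)) (rep c)).ncard
        ≤ (Finset.univ.filter (fun c => ¬ Good (τ.erase p) R p c)).card
          * piPart (τ.erase p) (Nat.card G) := by
      rw [Finset.mul_sum, ← smul_eq_mul, ← Finset.sum_const]
      exact Finset.sum_le_sum hK2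
    have f6 : (Finset.univ.filter (fun c => Good (τ.erase p) R p c)).card
        + (Finset.univ.filter (fun c => ¬ Good (τ.erase p) R p c)).card = kpi {p} G := by
      rw [Finset.card_filter_add_card_filter_not, Finset.card_univ, kpi,
        Nat.card_eq_fintype_card]
    obtain ⟨e, rfl⟩ : ∃ e, p = e + 1 := ⟨p - 1, by have := hp.pos; omega⟩
    have f3 : (e + 1) * (((Dq (τ.erase (e + 1)) R (e + 1) ×ˢ elts (hull (τ.erase (e + 1)) R)).image
          (fun ξ : G × G => ConjClasses.mk (ξ.1 * ξ.2))).card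
            * Nat.card (NR (τ.erase (e + 1)) R))
        ≤ piPart (τ.erase (e + 1)) (Nat.card G)
            * ((Finset.univ.filter (fun c => Good (τ.erase (e + 1)) R (e + 1) c)).card
              * Nat.card (NR (τ.erase (e + 1)) R))
          + e * piPart (τ.erase (e + 1)) (Nat.card G)
            * (Nat.card QD * Nat.card (DR (τ.erase (e + 1)) R)) := by
      rw [← hbc]
      calc (e + 1) * (((Dq (τ.erase (e + 1)) R (e + 1)
              ×ˢ elts (hull (τ.erase (e + 1)) R)).image
            (fun ξ : G × G => ConjClasses.mk (ξ.1 * ξ.2))).card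
              * Nat.card (NR (τ.erase (e + 1)) R))
          ≤ (e + 1) * ∑ ξ ∈ Dq (τ.erase (e + 1)) R (e + 1) ×ˢ elts (hull (τ.erase (e + 1)) R),
              stc (NR (τ.erase (e + 1)) R) act2 ξ :=
            Nat.mul_le_mul_left _ (caseC_pair_le _ R (e + 1))
        _ = ∑ x ∈ Dq (τ.erase (e + 1)) R (e + 1),
              (e + 1) * ∑ y ∈ elts (hull (τ.erase (e + 1)) R),
              stc (NR (τ.erase (e + 1)) R) act2 (x, y) := by
            rw [Finset.sum_product, Finset.mul_sum]
        _ ≤ ∑ x ∈ Dq (τ.erase (e + 1)) R (e + 1),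
              (Nat.card (hull (τ.erase (e + 1)) R) * stc (NR (τ.erase (e + 1)) R) act1 x
                + e * Nat.card (hull (τ.erase (e + 1)) R)
                  * stc (DR (τ.erase (e + 1)) R) act1 x) :=
            Finset.sum_le_sum (fun x _ => caseC_fix_le e hl x)
        _ = Nat.card (hull (τ.erase (e + 1)) R) * ∑ x ∈ Dq (τ.erase (e + 1)) R (e + 1),
                stc (NR (τ.erase (e + 1)) R) act1 x
              + e * Nat.card (hull (τ.erase (e + 1)) R) * ∑ x ∈ Dq (τ.erase (e + 1)) R (e + 1),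
                stc (DR (τ.erase (e + 1)) R) act1 x := by
            rw [Finset.sum_add_distrib, Finset.mul_sum, Finset.mul_sum]
        _ ≤ _ := Nat.add_le_add (Nat.mul_le_mul_left _ (caseC_good_le hR (e + 1)))
            (Nat.mul_le_mul_left _ (caseC_syl_le hp QD hQDle hQDc))
    have hfinal := caseC_arith' Nat.card_pos f1 f2 f3 hDN ha' f6 hcount
    rw [hm] at hmany
    exact absurd hmany (not_lt.mpr hfinal)

/-- **Main step.** Some Sylow `p`-subgroup centralizes the family. -/
theorem exists_cent [Finite G] (p : ℕ) (hp : p.Prime) (τ : Finset ℕ) (hpτ : p ∈ τ)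
    (hτ : ∀ s ∈ τ.erase p, s.Prime ∧ p < s) (R : ℕ → Subgroup G) (hR : Fam (τ.erase p) ⊤ R)
    (hmany : piPart τ (Nat.card G) < p * kpi (↑τ) G) :
    ∃ P : Subgroup G, Nat.card P = p ^ (Nat.card G).factorization p ∧
      ∀ s ∈ τ.erase p, ∀ u ∈ P, ∀ y ∈ R s, u * y = y * u := by
  have hFp : Fact p.Prime := ⟨hp⟩
  by_cases hND : ∀ n ∈ NR (τ.erase p) R, n ∈ DR (τ.erase p) R
  · exact caseB2 p hp τ hpτ hτ R hR hND hmany
  · push Not at hND
    obtain ⟨P0⟩ : Nonempty (Sylow p G) := inferInstance
    by_cases hA : Subgroup.normalizer ((P0 : Subgroup G) : Set G)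
        ≤ Subgroup.centralizer ((P0 : Subgroup G) : Set G)
    · obtain ⟨K, hKn, hKp, hKi⟩ := exists_normal_compl hp (P0 : Subgroup G)
        (Sylow.card_eq_multiplicity P0) hA
      have := hKn
      refine caseA' p hp τ hpτ hτ K hKp R hR ?_ hmany
      intro s hs
      have hsp := (hτ s hs).1
      apply le_of_not_dvd_index hsp K ?_ (IsPGroup.of_card (hR.card s hs))
      rw [hKi, Sylow.card_eq_multiplicity P0]
      intro hd
      have h1 := (Nat.prime_dvd_prime_iff_eq hsp hp).mp (hsp.dvd_of_dvd_pow hd)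
      have h2 := (hτ s hs).2
      omega
    · refine caseC' p hp τ hpτ hτ R hR hND ?_ hmany
      have h1 := Cfsg.Agent.S3897.card_cls_le P0
      have h2 := Cfsg.Agent.S3897.count P0 hA
      rw [kpi_singleton_eq hp, ← Sylow.card_eq_multiplicity P0]
      exact (Nat.mul_le_mul_left _ h1).trans h2

end Cfsg.Agent.Lib.Helper62.PiStar
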