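import Mathlib
import Cfsg.Agent.Lib.Helper1.PiClasses
import Cfsg.Agent.Lib.Helper1.PiClasses2
import Cfsg.Agent.Lib.Helper1.PGroupKP
import Cfsg.Agent.Lib.Helper30.PiHall
import Cfsg.Agent.Lib.Helper30.PiHallMain
import Cfsg.Agent.Lib.Helper62.PiStar

set_option autoImplicit false

/-!
# Many π-classes force a nilpotent Hall π-subgroup

`exists_nilpotent_hall`: if `p` is the least member of `π` and `G` has more than `|G|_π / p`
classes of π-elements, then `G` has a nilpotent Hall π-subgroup whose derived subgroup has order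
at most `p`.
-/

namespace Cfsg.Agent.Lib.Helper62.PiNil

open Cfsg.Agent.Lib.Helper1.PiClasses
open Cfsg.Agent.Lib.Helper1.PiClasses2
open Cfsg.Agent.Lib.Helper30.PiHall
open Cfsg.Agent.Lib.Helper62.PiStar

universe u

variable {G : Type u} [Group G]

/-- an abelian subgroup is nilpotent with trivial commutator subgroup -/
theorem abelian_nil (H : Subgroup G) (hab : ∀ x ∈ H, ∀ y ∈ H, x * y = y * x) :
    Group.IsNilpotent H ∧ commutator H = ⊥ := by
  have hc : Subgroup.center H = ⊤ := by
    rw [eq_top_iff]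
    intro z _
    rw [Subgroup.mem_center_iff]
    intro g
    exact Subtype.ext (hab g g.2 z z.2)
  exact ⟨⟨⟨1, by rw [Subgroup.upperCentralSeries_one, hc]⟩⟩,
    (commutator_eq_bot_iff_center_eq_top (G := H)).mpr hc⟩

theorem card_commutator_congr {A B : Type*} [Group A] [Group B] (e : A ≃* B) :
    Nat.card (commutator B) = Nat.card (commutator A) := by
  have h1 : (commutator A).map e.toMonoidHom = commutator B := by
    rw [_root_.commutator_def, _root_.commutator_def, Subgroup.map_commutator,
      Subgroup.map_top_of_surjective e.toMonoidHom e.surjective]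
  rw [← h1, Subgroup.card_map_of_injective e.injective]

/-- the product of a `p`-subgroup with many classes and an abelian subgroup of coprime order
centralizing it -/
theorem exists_prod [Finite G] (p : ℕ) [Fact p.Prime] (P H : Subgroup G) (hPp : IsPGroup p P)
    (hHab : ∀ x ∈ H, ∀ y ∈ H, x * y = y * x) (hcomm : ∀ u ∈ P, ∀ y ∈ H, u * y = y * u)
    (hcop : Nat.Coprime (Nat.card P) (Nat.card H))
    (hk : Nat.card P < p * Nat.card (ConjClasses P)) :
    ∃ L : Subgroup G, Nat.card L = Nat.card P * Nat.card H ∧ Group.IsNilpotent L ∧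
      Nat.card (commutator L) ≤ p := by
  let f : P × H →* G :=
    MonoidHom.noncommCoprod P.subtype H.subtype (fun u y => hcomm u u.2 y y.2)
  have hinj : Function.Injective f :=
    (MonoidHom.noncommCoprod_injective P.subtype H.subtype _).mpr
      ⟨P.subtype_injective, H.subtype_injective, by
        rw [Subgroup.range_subtype, Subgroup.range_subtype]
        exact Subgroup.disjoint_of_coprime_natCard hcop⟩
  let e : P × H ≃* f.range := MonoidHom.ofInjective hinj
  obtain ⟨hHnil, hHcomm⟩ := abelian_nil H hHab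
  have hPnil : Group.IsNilpotent P := hPp.isNilpotent
  refine ⟨f.range, ?_, Group.nilpotent_of_mulEquiv e, ?_⟩
  · rw [← Nat.card_congr e.toEquiv, Nat.card_prod]
  · have h2 : commutator (P × H) = (commutator P).prod (commutator H) := by
      rw [_root_.commutator_def, _root_.commutator_def, _root_.commutator_def,
        ← Subgroup.commutator_prod_prod, Subgroup.top_prod_top]
    have h3 : Nat.card (commutator f.range) = Nat.card (commutator P) := by
      rw [card_commutator_congr e, h2, hHcomm,
        Nat.card_congr (Subgroup.prodEquiv _ _).toEquiv, Nat.card_prod, Subgroup.card_bot,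
        mul_one]
    rw [h3]
    exact Cfsg.Agent.Lib.Helper1.PGroupKP.card_commutator_le_of_lt p hPp hk

theorem exists_nilpotent_hall [Finite G]
    (π : Set ℕ) (hπ : ∀ q ∈ π, q.Prime) (p : ℕ) (hp : p ∈ π) (hmin : ∀ q ∈ π, p ≤ q)
    (m : ℕ) (hm : m ∣ Nat.card G) (hmπ : ∀ q : ℕ, q.Prime → q ∣ m → q ∈ π)
    (hm' : ∀ q ∈ π, ¬ q ∣ Nat.card G / m)
    (k : ℕ) (hk : k = Nat.card {C : ConjClasses G // ∀ q : ℕ, q.Prime →
      (∃ g : G, ConjClasses.mk g = C ∧ q ∣ orderOf g) → q ∈ π})
    (hmany : m < p * k) :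
    ∃ H : Subgroup G, Nat.card H = m ∧ Group.IsNilpotent H ∧ Nat.card (commutator H) ≤ p := by
  classical
  have hpp : p.Prime := hπ p hp
  have hFp : Fact p.Prime := ⟨hpp⟩
  have hτp : ∀ s ∈ tauOf π (Nat.card G), s.Prime := fun s hs => prime_of_mem_tauOf hs
  have hτπ : ∀ s ∈ tauOf π (Nat.card G), s ∈ π := fun s hs => mem_pi_of_mem_tauOf hs
  have hmeq : m = piPart (tauOf π (Nat.card G)) (Nat.card G) :=
    eq_piPart_tauOf π Nat.card_pos.ne' hm hmπ hm'
  have hkeq : k = kpi (↑(tauOf π (Nat.card G))) G := by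
    rw [hk, card_stmt_eq_kpi, kpi_eq_kpi_tauOf]
  rw [hmeq, hkeq] at hmany
  rw [hmeq]
  generalize tauOf π (Nat.card G) = τ at hτp hτπ hmany
  have hF : (p + 1) ^ 2 + (p + 1) - 1 = (p + 1) ^ 2 + p := by omega
  by_cases hpτ : p ∈ τ
  · have hσ : ∀ s ∈ τ.erase p, s.Prime ∧ p < s := by
      intro s hs
      have hs' := Finset.mem_of_mem_erase hs
      exact ⟨hτp s hs', lt_of_le_of_ne (hmin s (hτπ s hs')) (Finset.ne_of_mem_erase hs).symm⟩
    have hm1 := piPart_eq_mul_erase τ hpτ (Nat.card G)
    have h1 := kpi_insert_le' (G := G) (↑(τ.erase p) : Set ℕ) hpp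
    rw [← Finset.coe_insert, Finset.insert_erase hpτ] at h1
    have hb : piPart (τ.erase p) (Nat.card G) < p * kpi (↑(τ.erase p)) G := by
      have h4 : p ^ (Nat.card G).factorization p * piPart (τ.erase p) (Nat.card G)
          < p ^ (Nat.card G).factorization p * (p * kpi (↑(τ.erase p)) G) := by
        calc p ^ (Nat.card G).factorization p * piPart (τ.erase p) (Nat.card G)
            = piPart τ (Nat.card G) := hm1.symm
          _ < p * kpi (↑τ) G := hmany
          _ ≤ p * (kpi (↑(τ.erase p)) G * p ^ (Nat.card G).factorization p) :=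
              Nat.mul_le_mul_left _ h1
          _ = p ^ (Nat.card G).factorization p * (p * kpi (↑(τ.erase p)) G) := by ring
      exact Nat.lt_of_mul_lt_mul_left h4
    obtain ⟨R, hR⟩ := exists_fam (p + 1) (by omega) (τ.erase p) G
      (fun s hs => ⟨(hσ s hs).1, (hσ s hs).2⟩) (by rw [hF]; exact many_arith hpp.pos hb)
    obtain ⟨P, hPc, hPR⟩ := exists_cent p hpp τ hpτ hσ R hR hmany
    have hPp : IsPGroup p P := IsPGroup.of_card hPc
    have hbpos := piPart_pos (τ.erase p) (fun s hs => (hσ s hs).1) (Nat.card G)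
    have hkP : Nat.card P < p * Nat.card (ConjClasses P) := by
      have h2 := kpi_le_mul_erase τ hτp hpτ (G := G)
      have h3 : kpi {p} G ≤ Nat.card (ConjClasses P) :=
        kpi_prime_le_classes (Sylow.ofCard P hPc)
      have h4 : Nat.card P * piPart (τ.erase p) (Nat.card G)
          < (p * Nat.card (ConjClasses P)) * piPart (τ.erase p) (Nat.card G) := by
        calc Nat.card P * piPart (τ.erase p) (Nat.card G)
            = piPart τ (Nat.card G) := by rw [hm1, hPc]
          _ < p * kpi (↑τ) G := hmany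
          _ ≤ p * (kpi {p} G * piPart (τ.erase p) (Nat.card G)) := Nat.mul_le_mul_left _ h2
          _ ≤ p * (Nat.card (ConjClasses P) * piPart (τ.erase p) (Nat.card G)) :=
              Nat.mul_le_mul_left _ (Nat.mul_le_mul_right _ h3)
          _ = (p * Nat.card (ConjClasses P)) * piPart (τ.erase p) (Nat.card G) := by ring
      exact Nat.lt_of_mul_lt_mul_right h4
    have hbc : Nat.card (hull (τ.erase p) R) = piPart (τ.erase p) (Nat.card G) := by
      rw [hR.card_hull, Subgroup.card_top]
    have hcop : Nat.Coprime (Nat.card P) (Nat.card (hull (τ.erase p) R)) := by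
      rw [hPc, hbc]
      apply Nat.Coprime.pow_left
      rw [Nat.Prime.coprime_iff_not_dvd hpp]
      intro hd
      exact (Finset.notMem_erase p τ) (prime_dvd_piPart (fun s hs => (hσ s hs).1) hpp hd)
    have hcomm : ∀ u ∈ P, ∀ y ∈ hull (τ.erase p) R, u * y = y * u := by
      intro u hu y hy
      have h5 : hull (τ.erase p) R ≤ Subgroup.centralizer ({u} : Set G) := by
        apply hull_le
        intro s hs y hy
        rw [Subgroup.mem_centralizer_iff]
        intro z hz
        rw [Set.mem_singleton_iff] at hz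
        rw [hz]
        exact hPR s hs u hu y hy
      exact Subgroup.mem_centralizer_iff.mp (h5 hy) u (Set.mem_singleton u)
    obtain ⟨L, hLc, hLn, hLcomm⟩ := exists_prod p P (hull (τ.erase p) R) hPp
      (fun x hx y hy => hR.hull_comm hx hy) hcomm hcop hkP
    exact ⟨L, by rw [hLc, hPc, hbc, hm1], hLn, hLcomm⟩
  · have hσ : ∀ s ∈ τ, s.Prime ∧ p + 1 ≤ s := by
      intro s hs
      refine ⟨hτp s hs, Nat.succ_le_of_lt (lt_of_le_of_ne (hmin s (hτπ s hs)) ?_)⟩
      rintro rfl
      exact hpτ hs
    obtain ⟨R, hR⟩ := exists_fam (p + 1) (by omega) τ G hσ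
      (by rw [hF]; exact many_arith hpp.pos hmany)
    obtain ⟨hnil, hcomm⟩ := abelian_nil (hull τ R) (fun x hx y hy => hR.hull_comm hx hy)
    refine ⟨hull τ R, by rw [hR.card_hull, Subgroup.card_top], hnil, ?_⟩
    rw [hcomm, Subgroup.card_bot]
    exact hpp.one_lt.le

end Cfsg.Agent.Lib.Helper62.PiNil
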